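import Cfsg.Agent.Omega.NO3S.WY.Tor.Lit
import Cfsg.Agent.Omega.Node.MulXTwo

/-!
# The master glue of `MulXTwo.NoW`

`MulL S P B ZJ L W Z C A 2`, `2 ≤ k`, `NLoc (KX B ZJ V_P)`.

* `Wd S P B ZJ Z j Y` : a weird `Y` over `B` in position `j` (any stage): the hypotheses of `NoW` and `[ZJ, Y] ≠ 1`;
* `Mx S P B ZJ Z Y` : `|D_Y|` is maximal among **all** weird `(Y', j')`; `exists_mx`;
* `Wd.toWJ`, `Wd.of_wj`, `Mx.wj` : if `J(S) ≤ O₂(Y)`, `Y` is in the frame `WJ`; the maximality among the `WJ`;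
* the sockets: `FinP K` (`J(S) ≤ O₂(Y)` for the maximal `Y`), `InfP K` (`J(S) ≤ O₂(Y)`: all sorts of the infinite
  stage);
* **`noW_of : FinP K → InfP K → NoW K`**.
-/

set_option autoImplicit false
set_option linter.unusedSectionVars false
set_option linter.dupNamespace false

namespace Cfsg.Agent.Omega.NO3S.WY.Sel

open Subgroup Cfsg Cfsg.Agent.ZN Cfsg.Agent.ZN.ChoiceBase Cfsg.Agent.Omega.MinPar Cfsg.Agent.Omega.Frame
open Cfsg.Agent.ZN.ChoiceSit (Syl)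
open Cfsg.Agent.MinSimple.MinParabolic (IsMinPar)
open Cfsg.Agent.Omega.NO3S.Level
open Cfsg.Agent.Omega.NO3S.RedC
open Cfsg.Agent.Omega.Frame (Cls)
open Cfsg.Agent.Omega.OM
open Cfsg.Agent.Omega.Node.MultiOf Cfsg.Agent.Omega.Node.MulG
open Cfsg.Agent.Omega.Node.MulX (MulL KX)
open Cfsg.Agent.Omega.Node.MulXTwo (NoW)

universe u

section

variable {G : Type u} [Group G] [Finite G]

/-- A weird `Y` over `B` in position `j`, any stage. -/
structure Wd (S : Sylow 2 G) (P B ZJ : Subgroup G) {ι : Type} (Z : ι → Subgroup G) (j : ι) (Y : Subgroup G) :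
    Prop where
  par : IsMinPar B Y
  syl : Syl B Y
  c2 : Y ⊓ centralizer (o2 Y : Set G) ≤ o2 Y
  cen : ∀ l, l ≠ j → Y ≤ centralizer (Z l : Set G)
  nQ : ¬ o2 P ≤ o2 Y
  mv : ¬ Y ≤ centralizer (ZJ : Set G)

/-- `|D_Y|` is maximal among all weird `(Y', j')`. -/
def Mx (S : Sylow 2 G) (P B ZJ : Subgroup G) {ι : Type} (Z : ι → Subgroup G) (Y : Subgroup G) : Prop :=
  ∀ (j' : ι) (Y' : Subgroup G), Wd S P B ZJ Z j' Y' →
    Nat.card ↥(DX (S : Subgroup G) P Y') ≤ Nat.card ↥(DX (S : Subgroup G) P Y)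

variable {S : Sylow 2 G} {P B ZJ : Subgroup G} {k : ℕ} {L W Z C A : Fin k → Subgroup G} {q : ℕ}

theorem exists_mx {ι : Type} [Finite ι] {Z : ι → Subgroup G} {j : ι} {Y : Subgroup G} (h : Wd S P B ZJ Z j Y) :
    ∃ (j' : ι) (Y' : Subgroup G), Wd S P B ZJ Z j' Y' ∧ Mx S P B ZJ Z Y' := by
  classical
  obtain ⟨⟨j', Y'⟩, h1, h2⟩ := Set.exists_max_image {p : ι × Subgroup G | Wd S P B ZJ Z p.1 p.2}
    (fun p => Nat.card ↥(DX (S : Subgroup G) P p.2)) (Set.toFinite _) ⟨(j, Y), h⟩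
  exact ⟨j', Y', h1, fun j'' Y'' h3 => h2 (j'', Y'') h3⟩

/-- `Ω₁(Z(B)) = ZJ` -/
theorem zc_B (h : MulL S P B ZJ L W Z C A q) : zc B = ZJ := by
  have hwl : SwapK.WL S (o2 P) := SwapK.WL.of_top (top_caseL h.cl)
  have hBK : SwapK.BK (S : Subgroup G) (o2 P) = B := h.eqB.symm
  have hZK : SwapK.ZK (S : Subgroup G) (o2 P) = ZJ := h.eZ.symm
  have hzB := hwl.zc_B
  rw [hBK, hZK] at hzB
  exact hzB

/-- The weird `Y` with `J(S) ≤ O₂(Y)`. -/
theorem Wd.toWJ {j : Fin k} {Y : Subgroup G} (h : Wd S P B ZJ Z j Y) (hM : MulL S P B ZJ L W Z C A q)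
    (hj : jj (S : Subgroup G) ≤ o2 Y) : WJ S P B Z j Y where
  toWY := WY.of_mv hM.cl (hM.eB.trans_le inf_le_left) hM.fr.QB h.syl h.par h.c2
    (fun hc => h.mv (by rwa [zc_B hM] at hc)) h.nQ hj
  cen := h.cen

theorem Wd.of_wj {j : Fin k} {Y : Subgroup G} (h : WJ S P B Z j Y) (hM : MulL S P B ZJ L W Z C A q) :
    Wd S P B ZJ Z j Y where
  par := h.min
  syl := h.syl
  c2 := h.c2
  cen := h.cen
  nQ := h.nQ
  mv := fun hc => h.mv (by rwa [zc_B hM])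

/-- the maximality among the `WJ` -/
theorem Mx.wj {Y : Subgroup G} (h : Mx S P B ZJ Z Y) (hM : MulL S P B ZJ L W Z C A q) (j' : Fin k) (Y' : Subgroup G)
    (h' : WJ S P B Z j' Y') : Nat.card ↥(DX (S : Subgroup G) P Y') ≤ Nat.card ↥(DX (S : Subgroup G) P Y) :=
  h j' Y' (Wd.of_wj h' hM)

end

/-- **socket: the finite stages** -/
def FinP (K : Cls.{u}) : Prop :=
  ∀ (G : Type u) [Group G] [Finite G], K G → ∀ (S : Sylow 2 G) (P B ZJ : Subgroup G) (k : ℕ)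
    (L W Z C A : Fin k → Subgroup G), 2 ≤ k → MulL S P B ZJ L W Z C A 2 →
      NLoc (KX B ZJ (zl (S : Subgroup G) P)) → ∀ (j : Fin k) (Y : Subgroup G), Wd S P B ZJ Z j Y →
        Mx S P B ZJ Z Y → jj (S : Subgroup G) ≤ o2 Y

/-- **socket: the infinite stage** (all sorts: `PasM`, `PasW`, `ActW`; `NO3S/WY/Cut.lean`) -/
def InfP (K : Cls.{u}) : Prop :=
  ∀ (G : Type u) [Group G] [Finite G], K G → ∀ (S : Sylow 2 G) (P B ZJ : Subgroup G) (k : ℕ)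
    (L W Z C A : Fin k → Subgroup G), 2 ≤ k → MulL S P B ZJ L W Z C A 2 →
      NLoc (KX B ZJ (zl (S : Subgroup G) P)) → ∀ (j : Fin k) (Y : Subgroup G), WJ S P B Z j Y →
        Mx S P B ZJ Z Y → False

/-- **The master glue.** -/
theorem noW_of {K : Cls.{u}} (h1 : FinP K) (h2 : InfP K) : NoW K := by
  intro G _ _ hK S P B ZJ k L W Z C A hk hM hN j Y hp hs hc hcen hQ
  by_contra hmv
  obtain ⟨j', Y', hw, hx⟩ := exists_mx (S := S) (P := P) (B := B) (ZJ := ZJ) (Z := Z) (j := j) (Y := Y)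
    ⟨hp, hs, hc, hcen, hQ, hmv⟩
  have hj := h1 G hK S P B ZJ k L W Z C A hk hM hN j' Y' hw hx
  exact h2 G hK S P B ZJ k L W Z C A hk hM hN j' Y' (hw.toWJ hM hj) hx

end Cfsg.Agent.Omega.NO3S.WY.Sel
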