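import Cfsg.Agent.Omega.NO3S.WY.NoWSel

/-!
# The infinite stage of `NoW`: the glue

* `TorOf K` : `MulL .. 2`, `WJ`, `Mx` give `TorP` ((ii) of #25080);
* `TorEnd K` : `TorP` is impossible (THEOREM TOR, #25011);
* **`infP_of : TorOf K → TorEnd K → Sel.InfP K`**.
-/

set_option autoImplicit false
set_option linter.dupNamespace false

namespace Cfsg.Agent.Omega.NO3S.WY.InfOf

open Subgroup Cfsg Cfsg.Agent.ZN Cfsg.Agent.ZN.ChoiceBase
open Cfsg.Agent.Omega.Frame (Cls)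
open Cfsg.Agent.Omega.Node.MultiOf
open Cfsg.Agent.Omega.Node.MulX (MulL KX)
open Cfsg.Agent.Omega.NO3S.WY.Sel (Mx InfP)

universe u

/-- **(TOR') from the maximal weird `Y` of the infinite stage** -/
def TorOf (K : Cls.{u}) : Prop :=
  ∀ (G : Type u) [Group G] [Finite G], K G → ∀ (S : Sylow 2 G) (P B ZJ : Subgroup G) (k : ℕ)
    (L W Z C A : Fin k → Subgroup G), 2 ≤ k → MulL S P B ZJ L W Z C A 2 →
      NLoc (KX B ZJ (zl (S : Subgroup G) P)) → ∀ (j : Fin k) (Y : Subgroup G), WJ S P B Z j Y →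
        Mx S P B ZJ Z Y → TorP S P B ZJ L W Z C A j Y

/-- **THEOREM TOR** -/
def TorEnd (K : Cls.{u}) : Prop :=
  ∀ (G : Type u) [Group G] [Finite G], K G → ∀ (S : Sylow 2 G) (P B ZJ : Subgroup G) (k : ℕ)
    (L W Z C A : Fin k → Subgroup G), 2 ≤ k → ∀ (j : Fin k) (Y : Subgroup G), TorP S P B ZJ L W Z C A j Y → False

/-- **The infinite stage.** -/
theorem infP_of {K : Cls.{u}} (h1 : TorOf K) (h2 : TorEnd K) : InfP K := by
  intro G _ _ hK S P B ZJ k L W Z C A hk hM hN j Y hw hx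
  exact h2 G hK S P B ZJ k L W Z C A hk j Y (h1 G hK S P B ZJ k L W Z C A hk hM hN j Y hw hx)

end Cfsg.Agent.Omega.NO3S.WY.InfOf
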