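import Cfsg.Agent.Omega.NO3S.WY.Frame
import Cfsg.Agent.Omega.NO3S.RedC.WSt
import Cfsg.Agent.Omega.NO3S.RedC.Nff

/-!
# The weird parabolics of the case (L): the cut

`WQ S P T Y` (so `WY S P T Y`); `V` with `⟨Z^GX⟩ ≤ V ≤ Ω₁(Z(DX))`, normal in `GX`.

* `offP` : if `V` has an offender, the class of the maximal offenders of least rank (`RedC.MaxMin V GX`) is
  **passive**: all members in `S` lie in `O₂(P)`, and one of them is not in `O₂(Y)` (`PasM`);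
* `bad_Z` : if `⟨Z^GX⟩` is not FF, `Z` is a bad subgroup of `V`; `exists_hyp` : maximal bad subgroups;
* `exists_W` : some `W_F ≤ S` is not in `O₂(P)`, or all `W_F ≤ S` lie in `O₂(P)` and one of them is not in `O₂(Y)`;
* `cut` : **the three cases** for `V = ⟨Z^GX⟩`;
* `MaxMin`: `best`, `off`, `quad` (`RedC/MaxMin.lean`).
-/

set_option autoImplicit false
set_option linter.unusedSectionVars false
set_option linter.dupNamespace false

namespace Cfsg.Agent.Omega.NO3S.WY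

open Subgroup Cfsg Cfsg.Agent.ZN Cfsg.Agent.ZN.ChoiceBase Cfsg.Agent.Omega.MinPar Cfsg.Agent.Omega.Frame
open Cfsg.Agent.Omega.FrameNOFF (CZ)
open Cfsg.Agent.Omega.NO3b.EZero (cl cl_le)
open Cfsg.Agent.Omega.NO3b.Wc (WC)
open Cfsg.Agent.Omega.NO3S.Level
open Cfsg.Agent.Omega.NO3S.RedC
open Cfsg.Agent.Omega.FFThm (OffM ElemM)
open scoped Pointwise

universe u

variable {G : Type u} [Group G] [Finite G]

/-- The module: `⟨Z^GX⟩ ≤ V ≤ Ω₁(Z(DX))`, normal in `GX`. -/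
structure Md (S : Sylow 2 G) (P Y V : Subgroup G) : Prop where
  ge : zl (S : Subgroup G) (GX (S : Subgroup G) P Y) ≤ V
  le : V ≤ zc (DX (S : Subgroup G) P Y)
  norm : GX (S : Subgroup G) P Y ≤ normalizer (V : Set G)

/-- **the passive offenders** : all members of the class of the maximal offenders of least rank which lie in `S` lie in
`O₂(P)`, and one of them is not in `O₂(Y)`. -/
structure PasM (S : Sylow 2 G) (P Y V : Subgroup G) : Prop where
  pas : ∀ A, MaxMin V (GX (S : Subgroup G) P Y) A → A ≤ (S : Subgroup G) → A ≤ o2 P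
  act : ∃ A, MaxMin V (GX (S : Subgroup G) P Y) A ∧ A ≤ o2 P ∧ ¬ A ≤ o2 Y

/-- **the W-stage**, active: `W_F ≤ S`, `W_F ≰ O₂(P)`. -/
structure ActW (S : Sylow 2 G) (P V F : Subgroup G) : Prop where
  hyp : NOne.Flat.Hyp V F
  WS : NOne.Flat.WW V F ≤ (S : Subgroup G)
  mv : ¬ NOne.Flat.WW V F ≤ o2 P

/-- **the W-stage**, passive: all `W_F ≤ S` lie in `O₂(P)`; `W_F ≤ O₂(P)`, `W_F ≰ O₂(Y)`. -/
structure PasW (S : Sylow 2 G) (P Y V F : Subgroup G) : Prop where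
  hyp : NOne.Flat.Hyp V F
  WQ : NOne.Flat.WW V F ≤ o2 P
  mv : ¬ NOne.Flat.WW V F ≤ o2 Y
  pas : ∀ F₁, NOne.Flat.Hyp V F₁ → NOne.Flat.WW V F₁ ≤ (S : Subgroup G) → NOne.Flat.WW V F₁ ≤ o2 P

namespace WQ

variable {S : Sylow 2 G} {P T Y V : Subgroup G} (h : WQ S P T Y)
include h

theorem md_zl : Md S P Y (zl (S : Subgroup G) (GX (S : Subgroup G) P Y)) :=
  ⟨le_rfl, h.zl_GX_le, ZN.le_normalizer_zl _ _⟩

theorem md_zc : Md S P Y (zc (DX (S : Subgroup G) P Y)) := ⟨h.zl_GX_le, le_rfl, GX_norm _ _ _⟩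

theorem csV (hV : Md S P Y V) : (S : Subgroup G) ⊓ centralizer (V : Set G) = DX (S : Subgroup G) P Y :=
  h.cs (h.L_le_zl.trans hV.ge) hV.le hV.norm

theorem V_ne_L (hV : Md S P Y V) : V ≠ zl (S : Subgroup G) P := by
  rintro rfl
  exact h.not_norm_L (h.Y_le.trans hV.norm)

/-- **the offenders are passive** -/
theorem offP (hV : Md S P Y V) (hoff : ∃ A ≤ GX (S : Subgroup G) P Y, OffM V A) : PasM S P Y V := by
  have hFF := FF.Glob.ffthmM.{u}
  have hWc : V ≤ centralizer (V : Set G) := hV.le.trans (h.V_comm.trans (centralizer_le hV.le))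
  have hWs : ∀ x ∈ V, x ^ 2 = 1 := fun x hx => h.V_sq x (hV.le hx)
  have hWS : V ≤ (S : Subgroup G) := hV.le.trans h.V_le_S
  have hL : zl (S : Subgroup G) P ≤ V := h.L_le_zl.trans hV.ge
  obtain ⟨B, m⟩ := exists_maxMin hV.norm hoff
  rcases h.prin hV.le m.le m.pg m.ne (𝓕 := {A | MaxMin V (GX (S : Subgroup G) P Y) A})
      (fun A hA n hn => MaxMin.cj hA hn hV.norm) m with ⟨A, mA, hAS, hP⟩ | ⟨h1, A, mA, hAP, hAY⟩
  · exfalso
    have mA' : MaxMin V (GX (S : Subgroup G) P Y) A := mA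
    have hne : ¬ A ≤ centralizer (zl (S : Subgroup G) P : Set G) := fun hc => hP (by
      rw [← h.parP.inf_centralizer S h.hG]
      exact le_inf hAS hc)
    have hE : ElemM (zl (S : Subgroup G) P) A :=
      ⟨fun a ha => centralizer_le hL (mA'.elem.sq a ha), fun a ha b hb => centralizer_le hL (mA'.elem.comm a ha b hb)⟩
    obtain ⟨no, mo⟩ := mA'.minOff hV.norm hL (noOver_line hFF h.hG h.parP (hAS.trans h.parP.le) hE hne) hne
    exact h.V_ne_L hV (eq_of_min hFF h.hG h.parP h.P_le h.hyp.cv hWc hWs hV.norm hL hWS no mo hAS hne)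
  · exact ⟨fun A hA hAS => h1 A hA hAS, A, mA, hAP, hAY⟩

/-- No offenders: `NotFF`. -/
theorem nff_of (hV : Md S P Y V) (hoff : ¬ ∃ A ≤ GX (S : Subgroup G) P Y, OffM V A) : NO3b.EZero.NotFF V := by
  push Not at hoff
  exact nff_of_noOff h.S_le hV.norm hoff

/-- If `⟨Z^GX⟩` is not FF, `Z` is bad in `V`. -/
theorem bad_Z (hV : Md S P Y V) (hn : NO3b.EZero.NotFF (zl (S : Subgroup G) (GX (S : Subgroup G) P Y))) :
    NOne.Flat.Bad V (zc (S : Subgroup G)) :=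
  ⟨h.zc_ne, (MinSimple.VModule.zc_le_zl _ _).trans hV.ge, fun h1 => h.not_low hn (hV.ge.trans h1)⟩

theorem exists_hyp (hV : Md S P Y V) (hn : NO3b.EZero.NotFF V) {F₀ : Subgroup G} (h0 : NOne.Flat.Bad V F₀) :
    ∃ F₁, F₀ ≤ F₁ ∧ NOne.Flat.Hyp V F₁ := by
  refine NOne.Flat.exists_hyp (hV.le.trans (h.V_comm.trans (centralizer_le hV.le))) (fun x hx => h.V_sq x (hV.le hx))
    (fun D _ hD => ?_) (fun _ hA => noOff_of hn hA) (fun D hne hD => ?_) h0
  · exact (o2_le_GX (h.D_cent.trans (centralizer_le (hD.trans hV.le)))).trans hV.norm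
  · have hD2 : IsPGroup 2 D := S.isPGroup'.to_le (hD.trans (hV.le.trans h.V_le_S))
    exact NOne.LemmaT.char2_of_normal (MinSimple.Basic.char2_normalizer h.hG hD2 hne)
      (centralizer_le_normalizer _)
      (normalizer_le_of_cj (F := fun T => centralizer (T : Set G)) (fun g T => (cj_centralizer g T).symm) D)

theorem W_le_GX (hV : Md S P Y V) {F : Subgroup G} (hF : NOne.Flat.Hyp V F) :
    NOne.Flat.WW V F ≤ GX (S : Subgroup G) P Y :=
  NOne.Flat.Hyp.W_le_R.trans (o2_le_GX (h.D_cent.trans (centralizer_le (hF.F_le_V.trans hV.le))))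

/-- **the W-stage** -/
theorem exists_W (hV : Md S P Y V) (hn : NO3b.EZero.NotFF V) {F₀ : Subgroup G} (h0 : NOne.Flat.Bad V F₀) :
    (∃ F, ActW S P V F) ∨ ∃ F, PasW S P Y V F := by
  obtain ⟨F₁, -, hF⟩ := h.exists_hyp hV hn h0
  have hW2 : IsPGroup 2 (NOne.Flat.WW V F₁) := (isPGroup_o2 _).to_le NOne.Flat.Hyp.W_le_R
  rcases h.prin hV.le (h.W_le_GX hV hF) hW2 hF.W_move
    (𝓕 := {A | ∃ F, NOne.Flat.Hyp V F ∧ NOne.Flat.WW V F = A})
    (fun A hA n hn => by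
      obtain ⟨F, hF, rfl⟩ := hA
      have hnV : n ∈ normalizer (V : Set G) := hV.norm hn
      exact ⟨MulAut.conj n • F, hF.conj hnV, (NOne.Flat.WW_conj hnV).symm⟩)
    ⟨F₁, hF, rfl⟩ with ⟨A, ⟨F, hF', rfl⟩, hAS, hP⟩ | ⟨h1, A, ⟨F, hF', rfl⟩, hAP, hAY⟩
  · exact Or.inl ⟨F, hF', hAS, hP⟩
  · exact Or.inr ⟨F, hF', hAP, hAY, fun F₂ hF₂ hS => h1 _ ⟨F₂, hF₂, rfl⟩ hS⟩

/-- **THE CUT** for `V = ⟨Z^GX⟩`. -/
theorem cut : PasM S P Y (zl (S : Subgroup G) (GX (S : Subgroup G) P Y)) ∨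
    NO3b.EZero.NotFF (zl (S : Subgroup G) (GX (S : Subgroup G) P Y)) ∧
      ((∃ F, ActW S P (zl (S : Subgroup G) (GX (S : Subgroup G) P Y)) F) ∨
        ∃ F, PasW S P Y (zl (S : Subgroup G) (GX (S : Subgroup G) P Y)) F) := by
  by_cases hoff : ∃ A ≤ GX (S : Subgroup G) P Y, OffM (zl (S : Subgroup G) (GX (S : Subgroup G) P Y)) A
  · exact Or.inl (h.offP h.md_zl hoff)
  · have hn := h.nff_of h.md_zl hoff
    exact Or.inr ⟨hn, h.exists_W h.md_zl hn (h.bad_Z h.md_zl hn)⟩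

/-- **THE CUT** for `V = Ω₁(Z(DX))`. -/
theorem cutX : PasM S P Y (zc (DX (S : Subgroup G) P Y)) ∨ PasM S P Y (zl (S : Subgroup G) (GX (S : Subgroup G) P Y)) ∨
    NO3b.EZero.NotFF (zc (DX (S : Subgroup G) P Y)) ∧
      NO3b.EZero.NotFF (zl (S : Subgroup G) (GX (S : Subgroup G) P Y)) ∧
      ((∃ F, ActW S P (zc (DX (S : Subgroup G) P Y)) F) ∨ ∃ F, PasW S P Y (zc (DX (S : Subgroup G) P Y)) F) := by
  by_cases hoff : ∃ A ≤ GX (S : Subgroup G) P Y, OffM (zc (DX (S : Subgroup G) P Y)) A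
  · exact Or.inl (h.offP h.md_zc hoff)
  by_cases hoff' : ∃ A ≤ GX (S : Subgroup G) P Y, OffM (zl (S : Subgroup G) (GX (S : Subgroup G) P Y)) A
  · exact Or.inr (Or.inl (h.offP h.md_zl hoff'))
  · have hn := h.nff_of h.md_zc hoff
    have hn' := h.nff_of h.md_zl hoff'
    exact Or.inr (Or.inr ⟨hn, hn', h.exists_W h.md_zc hn (h.bad_Z h.md_zc hn')⟩)

end WQ

end Cfsg.Agent.Omega.NO3S.WY
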