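import Cfsg.Agent.Omega.NO3S.WY.FinK
import Cfsg.Agent.Omega.OM.LowT.LinGen
import Cfsg.Agent.Omega.OM.LowT.LinMx
import Cfsg.Agent.Omega.OM.LowT.TwoMain
import Cfsg.Agent.Omega.OM.Lev.Low.PushRes
import Cfsg.Agent.Omega.OM.Lev.Low.TorusK.Done

/-!
# NoW, `q = 2`: the finite stages, complete

* `linOf` : **(LIN) at the stage `0`** (366's `linH_of`, 388's `norm_or_lev`);
* `lowEnd_two` : `LowEnd 2` (808's `TwoMain`, `PushRes`);
* **`finP : FinP K`**, for every class `K`, no hypotheses.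
-/

set_option autoImplicit false
set_option linter.unusedSectionVars false
set_option linter.dupNamespace false

namespace Cfsg.Agent.Omega.NO3S.WY.FinOf

open Subgroup Cfsg Cfsg.Agent.ZN Cfsg.Agent.ZN.ChoiceBase Cfsg.Agent.Omega.MinPar Cfsg.Agent.Omega.Frame
open Cfsg.Agent.ZN.ChoiceSit (Syl)
open Cfsg.Agent.MinSimple.MinParabolic (IsMinPar)
open Cfsg.Agent.Omega.NO3S.Level
open Cfsg.Agent.Omega.Frame (Cls)
open Cfsg.Agent.Omega.OM
open Cfsg.Agent.Omega.OM.SWT (LV Ln ZT BT)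
open Cfsg.Agent.Omega.OM.LowT (LinH)
open Cfsg.Agent.Omega.NO3S.EThree.Frame (Bg)
open Cfsg.Agent.Omega.Node.MulX (MulL KX)
open Cfsg.Agent.Omega.NO3S.WY.Sel (Wd Mx FinP zc_B)

universe u

/-- **(LIN) at the stage `0`.** -/
theorem linOf {K : Cls.{u}} : LinOf K := by
  intro G _ _ _ S P B ZJ k L W Z C A hk hM hN j Y hw hx hj
  have hB := BT_top hM
  have hZ := ZT_top hM
  have hle : lev (S : Subgroup G) 0 ≤ o2 P := (lev_le_lim _ 0).trans hM.cl.lim_le
  have h1 := LowT.LinGen.linH_of (n := topL hM.cl) (Y := Y) (j := 0) (ln_top hM hk) rfl hM.cl.norm_o2_le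
    (hB.symm ▸ hw.syl) (hB.symm ▸ hw.par) hw.c2 (by rw [hB, zc_B hM]; exact hw.mv) hle
    (fun i hi => absurd hi (Nat.not_lt_zero i)) hj (by
      rw [hB, hZ]
      intro R' h1 h2 h3
      exact LowT.norm_or_lev hM hw hx hle hj h1 h2 h3)
  rwa [hB] at h1

/-- **`k = 2`.** -/
theorem lowEnd_two : LowEnd.{u} 2 := by
  intro G _ _ S P n L W Z C A hln hbg hall R hP hR hc j hj hlow hnj hlin
  by_contra hZ
  obtain ⟨K, N₁, c, τ, ht⟩ := LowT.TwoMain.exists_tor_j hln hR hP hc hZ hj hlow hnj hlin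
  obtain ⟨z, z1, z2, hr, hD⟩ := ht.exists_res hbg hZ (ht.le_V hlin)
  exact ht.not_loc hbg hall hZ (ht.le_V hlin) (hr.isLoc hD)

/-- **The finite stages.** -/
theorem finP {K : Cls.{u}} : FinP K := finP_two linOf OM.Lev.Low.TorusK.Done.torusOf lowEnd_two

end Cfsg.Agent.Omega.NO3S.WY.FinOf
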