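import Cfsg.Agent.Omega.NO3S.WY.NoWSel
import Cfsg.Agent.Omega.OM.LowT.LinH
import Cfsg.Agent.Omega.OM.SWT.LowLev

/-!
# NoW, `q = 2`: the finite stages

`¬ J(S) ≤ O₂(Y)` is the stage `0`.

* `LinOf K` : (LIN) at the stage `0` for the maximal `Y`;
* `LowEnd k` : the end of the torus configuration, over `SWT.Ln` + `Bg` + (LIN);
* **`finP_of : LinOf K → LowEnd 2 → (∀ k ≥ 3, LowEnd k) → FinP K`**.
-/

set_option autoImplicit false
set_option linter.unusedSectionVars false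
set_option linter.dupNamespace false

namespace Cfsg.Agent.Omega.NO3S.WY.FinOf

open Subgroup Cfsg Cfsg.Agent.ZN Cfsg.Agent.ZN.ChoiceBase Cfsg.Agent.Omega.MinPar Cfsg.Agent.Omega.Frame
open Cfsg.Agent.ZN.ChoiceSit (Syl)
open Cfsg.Agent.MinSimple.MinParabolic (IsMinPar)
open Cfsg.Agent.Omega.NO3S.Level
open Cfsg.Agent.Omega.Frame (Cls)
open Cfsg.Agent.Omega.OM
open Cfsg.Agent.Omega.OM.SWT (LV Ln ZT BT)
open Cfsg.Agent.Omega.OM.LowT (LinH)
open Cfsg.Agent.Omega.NO3S.EThree.Frame (Bg)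
open Cfsg.Agent.Omega.Node.MultiOf Cfsg.Agent.Omega.Node.MulG
open Cfsg.Agent.Omega.Node.MulX (MulL KX)
open Cfsg.Agent.Omega.NO3S.WY.Sel (Wd Mx FinP zc_B)

universe u

/-- **(LIN) at the stage `0`** for the maximal `Y`. -/
def LinOf (K : Cls.{u}) : Prop :=
  ∀ (G : Type u) [Group G] [Finite G], K G → ∀ (S : Sylow 2 G) (P B ZJ : Subgroup G) (k : ℕ)
    (L W Z C A : Fin k → Subgroup G), 2 ≤ k → MulL S P B ZJ L W Z C A 2 →
      NLoc (KX B ZJ (zl (S : Subgroup G) P)) → ∀ (j : Fin k) (Y : Subgroup G), Wd S P B ZJ Z j Y →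
        Mx S P B ZJ Z Y → ¬ jj (S : Subgroup G) ≤ o2 Y → LinH S P B Y 0

/-- **The end of the finite stages**: over the frame `SWT.Ln` with (LIN), a parabolic of stage `j` over `B` centralises
`Ω₁Z(B)`. -/
def LowEnd (k : ℕ) : Prop :=
  ∀ (G : Type u) [Group G] [Finite G] (S : Sylow 2 G) (P : Subgroup G) (n : LV S) (L W Z C A : Fin k → Subgroup G),
    Ln P n L W Z C A 2 → Bg S P (BT n) (ZT n) L W Z C 2 → (∀ R, IsParS (S : Subgroup G) R → n.K ≤ o2 R) →
      ∀ R : Subgroup G, IsMinPar (BT n) R → Syl (BT n) R → R ⊓ centralizer (o2 R : Set G) ≤ o2 R →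
        ∀ j : ℕ, lev (S : Subgroup G) j ≤ n.K → (∀ i < j, lev (S : Subgroup G) i ≤ o2 R) →
          ¬ lev (S : Subgroup G) j ≤ o2 R → LinH S P (BT n) R j → R ≤ centralizer (zc (BT n) : Set G)

section mul

variable {G : Type u} [Group G] [Finite G] {S : Sylow 2 G} {P B ZJ : Subgroup G} {k : ℕ}
  {L W Z C A : Fin k → Subgroup G} {q : ℕ} (h : MulL S P B ZJ L W Z C A q)

/-- the top level `O₂(P)` of the case (L) -/
def topL {G : Type u} [Group G] [Finite G] {S : Sylow 2 G} {P : Subgroup G} (h : NO3S.Level.CaseL S P) : LV S :=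
  ⟨o2 P, h.levQ⟩

theorem ZT_top : ZT (topL h.cl) = ZJ := h.eZ.symm

theorem BT_top : BT (topL h.cl) = B := h.eqB.symm

/-- the frame `Ln` of the case (L) -/
theorem ln_top (hk : 2 ≤ k) : Ln P (topL h.cl) L W Z C A q where
  hyp := h.cl.hypN
  le := le_rfl
  fr := by
    rw [BT_top h, ZT_top h]
    show OM.Lev.Uni.FrL B (o2 P) (zl (S : Subgroup G) P) (zc (o2 P)) ZJ L W Z C A q
    rw [h.cl.zc_eq]
    exact h.fr
  two := fun i => by
    have : Nontrivial (Fin k) := Fin.nontrivial_iff_two_le.2 hk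
    exact exists_ne i

theorem bg_top : Bg S P (BT (topL h.cl)) (ZT (topL h.cl)) L W Z C q := by
  rw [BT_top h, ZT_top h]
  exact h.bg

end mul

/-- **The finite stages.** -/
theorem finP_of {K : Cls.{u}} (hL : LinOf K) (h2 : LowEnd.{u} 2) (h3 : ∀ k, 3 ≤ k → LowEnd.{u} k) : FinP K := by
  intro G _ _ hK S P B ZJ k L W Z C A hk hM hN j Y hw hx
  by_contra hj
  have hlin := hL G hK S P B ZJ k L W Z C A hk hM hN j Y hw hx hj
  have hend : LowEnd.{u} k := by
    rcases Nat.lt_or_ge k 3 with h4 | h4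
    · obtain rfl : k = 2 := by omega
      exact h2
    · exact h3 k h4
  have hB := BT_top hM
  refine hw.mv ?_
  have h5 := hend G S P (topL hM.cl) L W Z C A (ln_top hM hk) (bg_top hM) (fun _ hR => hM.cl.o2_le hR) Y
    (hB.symm ▸ hw.par) (hB.symm ▸ hw.syl) hw.c2 0 ((lev_le_lim _ 0).trans hM.cl.lim_le)
    (fun i hi => absurd hi (Nat.not_lt_zero i)) hj (hB.symm ▸ hlin)
  rwa [hB, zc_B hM] at h5

end Cfsg.Agent.Omega.NO3S.WY.FinOf
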