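import Cfsg.Agent.Omega.NO3S.WY.FinOf
import Cfsg.Agent.Omega.OM.LowT.LinGen
import Cfsg.Agent.Omega.OM.LowT.LinMx

/-!
# NoW, `q = 2`, finite stages: (LIN) for `MulL`

`linH_mulL` : `MulL .. 2`, `Wd`, `Mx`, `¬ lev S j ≤ O₂(Y)` ⊢ `LinH S P B Y j`; **`linOf : FinOf.LinOf K`**.
-/

set_option autoImplicit false
set_option linter.unusedSectionVars false

namespace Cfsg.Agent.Omega.NO3S.WY.LinX

open Subgroup Cfsg Cfsg.Agent.ZN.ChoiceBase
open Cfsg.Agent.ZN.ChoiceSit (Syl)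
open Cfsg.Agent.ZN (jj zc zl o2)
open Cfsg.Agent.MinSimple.MinParabolic (IsMinPar)
open Cfsg.Agent.Omega.NO3S.Level (nxt CaseL lev lev_wc)
open Cfsg.Agent.Omega.Frame (Cls)
open Cfsg.Agent.Omega.Node.MulX (MulL)
open Cfsg.Agent.Omega.NO3S.WY.Sel (Wd Mx zc_B)
open Cfsg.Agent.Omega.NO3S.WY.FinOf (LinOf topL BT_top ZT_top ln_top)
open Cfsg.Agent.Omega.OM
open Cfsg.Agent.Omega.OM.SWT (Ln BT ZT)
open Cfsg.Agent.Omega.OM.LowT (LinH)

universe u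

variable {G : Type u} [Group G] [Finite G] {S : Sylow 2 G} {P B ZJ : Subgroup G} {k : ℕ}
  {L W Z C A : Fin k → Subgroup G} {Y : Subgroup G}

/-- **(LIN)** for `MulL`, from the maximality `hYb`. -/
theorem linH_hyb (h : MulL S P B ZJ L W Z C A 2) (hk : 2 ≤ k) (hT : Syl B Y) (hP : IsMinPar B Y)
    (hc : Y ⊓ centralizer (o2 Y : Set G) ≤ o2 Y) (hZ : ¬ Y ≤ centralizer (ZJ : Set G)) {j : ℕ}
    (hj : lev (S : Subgroup G) j ≤ o2 P) (hlow : ∀ i < j, lev (S : Subgroup G) i ≤ o2 Y)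
    (hnj : ¬ lev (S : Subgroup G) j ≤ o2 Y)
    (hYb : ∀ R' : Subgroup G, IsMinPar B R' → R' ≤ Y → R' ≤ normalizer (LevB.BL (S : Subgroup G) j : Set G) →
      R' ≤ normalizer (o2 P : Set G) ∨ R' ≤ centralizer (ZJ : Set G)) : LinH S P B Y j := by
  have hzB : zc B = ZJ := zc_B h
  have cl : CaseL S P := h.cl
  have eB : B = BT (topL cl) := (BT_top h).symm
  have eZ : ZJ = ZT (topL cl) := (ZT_top h).symm
  have hl : Ln P (topL cl) L W Z C A 2 := ln_top h hk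
  clear h
  rw [← hzB] at hZ
  clear hzB
  subst eB eZ
  exact LowT.LinGen.linH_of hl rfl (fun g hg => cl.norm_o2_le hg) hT hP hc hZ hj hlow hnj hYb

/-- **(LIN)** for the weird `Y` with `|DX S P Y|` maximal, at every finite stage. -/
theorem linH_mulL (h : MulL S P B ZJ L W Z C A 2) (hk : 2 ≤ k) {i₀ : Fin k} (hw : Wd S P B ZJ Z i₀ Y)
    (hx : Mx S P B ZJ Z Y) {j : ℕ} (hj : lev (S : Subgroup G) j ≤ o2 P)
    (hlow : ∀ i < j, lev (S : Subgroup G) i ≤ o2 Y) (hnj : ¬ lev (S : Subgroup G) j ≤ o2 Y) : LinH S P B Y j :=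
  linH_hyb h hk hw.syl hw.par hw.c2 hw.mv hj hlow hnj fun _ h1 h2 h3 => LowT.norm_or_lev h hw hx hj hnj h1 h2 h3

/-- **`LinOf`.** -/
theorem linOf (K : Cls.{u}) : LinOf K := by
  intro G _ _ _ S P B ZJ k L W Z C A hk hM _ j Y hw hx hnj
  exact linH_mulL hM hk hw hx (j := 0) (hM.cl.hj P hM.cl.pss.par) (fun i hi => absurd hi (Nat.not_lt_zero i)) hnj

end Cfsg.Agent.Omega.NO3S.WY.LinX

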