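import Cfsg.Agent.Omega.NO3S.WY.OddKerD

/-!
# THE ODD KERNEL LEMMA ((0) of THEOREM TOR, helper474 #25011)

* `Dat π Q D` (in `OddKerD`): the data inside `Y`; constructors `Dat.of` (ambient group `G`, letters `Fin 5`) and
  `Dat.ofAction` (action on a set of five elements).
* `sect` : sections `X/X'` of `G`;
* `Ker0`, `ker0` : the shape used in (1), (4), (4+).
-/

set_option autoImplicit false
set_option linter.unusedSectionVars false
set_option linter.style.haveILetI false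

namespace Cfsg.Agent.Omega.NO3S.WY.OddKer

open Subgroup
open scoped commutatorElement

/-! ### The fours group -/

theorem v0_aux : ∀ x : Equiv.Perm (Fin 5), x 0 = 0 → x * x = 1 → (∀ i, i ≠ 0 → x i ≠ i) →
    (x = sb ∨ x = tb ∨ x = sb * tb) ∧ (x 1 = 2 → x = sb) ∧ (x 1 = 3 → x = tb) := by
  decide +kernel

/-- A group of exponent 2 fixing `0` and transitive on the other four letters is the fours group. -/
theorem v0_of {X : Subgroup (Equiv.Perm (Fin 5))} (h0 : ∀ x ∈ X, x 0 = 0) (h2 : ∀ x ∈ X, x * x = 1)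
    (htr : ∀ i : Fin 5, i ≠ 0 → ∀ j : Fin 5, j ≠ 0 → ∃ x ∈ X, x i = j) :
    sb ∈ X ∧ tb ∈ X ∧ ∀ x ∈ X, x = 1 ∨ x = sb ∨ x = tb ∨ x = sb * tb := by
  have hinv : ∀ x ∈ X, x⁻¹ = x := fun x hx => inv_eq_of_mul_eq_one_left (h2 x hx)
  have hcomm : ∀ x ∈ X, ∀ y ∈ X, x * y = y * x := by
    intro x hx y hy
    have h3 := hinv _ (X.mul_mem hx hy)
    rw [mul_inv_rev, hinv x hx, hinv y hy] at h3
    exact h3.symm
  have hreg : ∀ x ∈ X, ∀ i : Fin 5, i ≠ 0 → x i = i → x = 1 := by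
    intro x hx i hi hxi
    ext1 j
    by_cases hj : j = 0
    · rw [hj, h0 x hx]; rfl
    · obtain ⟨y, hy, hyi⟩ := htr i hi j hj
      have h3 : x (y i) = y (x i) := by
        have := congrArg (fun f : Equiv.Perm (Fin 5) => f i) (hcomm x hx y hy)
        simpa using this
      rw [hxi, hyi] at h3
      rw [h3]; rfl
  have hne : ∀ x ∈ X, x ≠ 1 → ∀ i, i ≠ 0 → x i ≠ i := fun x hx hx1 i hi h => hx1 (hreg x hx i hi h)
  refine ⟨?_, ?_, ?_⟩
  · obtain ⟨x, hx, hx1⟩ := htr 1 (by decide) 2 (by decide)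
    have hx1' : x ≠ 1 := by rintro rfl; revert hx1; decide
    rw [← (v0_aux x (h0 x hx) (h2 x hx) (hne x hx hx1')).2.1 hx1]
    exact hx
  · obtain ⟨x, hx, hx1⟩ := htr 1 (by decide) 3 (by decide)
    have hx1' : x ≠ 1 := by rintro rfl; revert hx1; decide
    rw [← (v0_aux x (h0 x hx) (h2 x hx) (hne x hx hx1')).2.2 hx1]
    exact hx
  · intro x hx
    by_cases hx1 : x = 1
    · exact Or.inl hx1
    · exact Or.inr (v0_aux x (h0 x hx) (h2 x hx) (hne x hx hx1)).1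

section amb

variable {G : Type*} [Group G] [Finite G] {Y Q D : Subgroup G}

/-- The data from the ambient group, letters `Fin 5`. -/
theorem Dat.of (π : ↥Y →* Equiv.Perm (Fin 5)) (QY : Q ≤ Y) (DY : D ≤ Y) (DN : Y ≤ normalizer (D : Set G))
    (D2 : IsPGroup 2 D) (Q2 : IsPGroup 2 Q) (Dk : ∀ d : ↥Y, (d : G) ∈ D → π d = 1)
    (ko : Odd ((D.subgroupOf Y).relIndex π.ker)) (sol : Group.IsSolvable ↥π.ker)
    (mv : ∃ y : ↥Y, π y 0 ≠ 0) (q0 : ∀ q : ↥Y, (q : G) ∈ Q → π q 0 = 0)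
    (q2 : ∀ q : ↥Y, (q : G) ∈ Q → π q * π q = 1)
    (qt : ∀ i : Fin 5, i ≠ 0 → ∀ j : Fin 5, j ≠ 0 → ∃ q : ↥Y, (q : G) ∈ Q ∧ π q i = j)
    (DQ : D ≤ normalizer (Q : Set G))
    (wc : ∀ y ∈ Y, y ∈ normalizer ((Q ⊔ D : Subgroup G) : Set G) → y ∈ normalizer (Q : Set G)) :
    Dat π (Q.subgroupOf Y) (D.subgroupOf Y) := by
  have hsup : (Q.subgroupOf Y ⊔ D.subgroupOf Y).map Y.subtype = Q ⊔ D := by
    rw [Subgroup.map_sup, subgroupOf_map_subtype, subgroupOf_map_subtype, inf_of_le_left QY, inf_of_le_left DY]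
  have hnor : ∀ (P : Subgroup G) (y : ↥Y), P ≤ Y →
      (y ∈ normalizer ((P.subgroupOf Y : Subgroup ↥Y) : Set ↥Y) ↔ (y : G) ∈ normalizer (P : Set G)) := by
    intro P y hP
    rw [mem_normalizer_iff, mem_normalizer_iff]
    constructor
    · intro h x
      constructor
      · intro hx
        have := (h ⟨x, hP hx⟩).1 (mem_subgroupOf.2 hx)
        exact mem_subgroupOf.1 this
      · intro hx
        have h3 : x ∈ Y := by
          have h4 := Y.mul_mem (Y.mul_mem (Y.inv_mem y.2) (hP hx)) y.2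
          have e : (y : G)⁻¹ * (y * x * (y : G)⁻¹) * y = x := by group
          rwa [e] at h4
        have := (h ⟨x, h3⟩).2 (mem_subgroupOf.2 hx)
        exact mem_subgroupOf.1 this
    · intro h x
      rw [mem_subgroupOf, mem_subgroupOf]
      exact h x
  obtain ⟨h1, h3, h4⟩ := v0_of (X := (Q.subgroupOf Y).map π) (by rintro _ ⟨x, hx, rfl⟩; exact q0 x hx)
    (by rintro _ ⟨x, hx, rfl⟩; exact q2 x hx) (fun i hi j hj => by
      obtain ⟨q, hq, hqi⟩ := qt i hi j hj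
      exact ⟨π q, ⟨q, hq, rfl⟩, hqi⟩)
  have hsb : sb ∈ π.range := by obtain ⟨x, _, hx⟩ := h1; exact ⟨x, hx⟩
  have htb : tb ∈ π.range := by obtain ⟨x, _, hx⟩ := h3; exact ⟨x, hx⟩
  refine ⟨?_, ?_, ?_, ?_, ko, sol, ?_, ?_, ?_, ?_, ?_, ?_⟩
  · constructor
    intro d hd y
    rw [mem_subgroupOf] at hd ⊢
    exact (mem_normalizer_iff.1 (DN y.2) d).1 hd
  · exact D2.comap_of_injective Y.subtype Y.subtype_injective
  · exact Q2.comap_of_injective Y.subtype Y.subtype_injective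
  · intro d hd
    exact Dk d hd
  · obtain ⟨y, hy⟩ := mv
    exact alt_le hsb htb hy 0 (π.range.mul_mem (π.range.mul_mem ⟨y, rfl⟩ hsb) (π.range.inv_mem ⟨y, rfl⟩))
  · obtain ⟨x, hx, hx1⟩ := h1; exact ⟨x, hx, hx1⟩
  · obtain ⟨x, hx, hx1⟩ := h3; exact ⟨x, hx, hx1⟩
  · intro q hq; exact h4 _ ⟨q, hq, rfl⟩
  · intro d hd
    exact (hnor Q d QY).2 (DQ hd)
  · intro y hy
    apply (hnor Q y QY).2
    apply wc y y.2
    rw [← hsup, ← hnor _ y (by rintro _ ⟨x, _, rfl⟩; exact x.2)]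
    have e : ((Q.subgroupOf Y ⊔ D.subgroupOf Y).map Y.subtype).subgroupOf Y = Q.subgroupOf Y ⊔ D.subgroupOf Y := by
      rw [subgroupOf, comap_map_eq_self_of_injective Y.subtype_injective]
    rw [e]
    exact hy

end amb

/-! ### Sections -/

section sect

variable {G : Type*} [Group G] {Y X X' : Subgroup G}

/-- a section which is elementary abelian and invariant under `Y` -/
structure Sec (Y X X' : Subgroup G) : Prop where
  /-- `X' ≤ X` -/
  le : X' ≤ X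
  /-- `Y` normalises `X` -/
  nX : Y ≤ normalizer (X : Set G)
  /-- `Y` normalises `X'` -/
  nX' : Y ≤ normalizer (X' : Set G)
  /-- abelian -/
  cm : ∀ a ∈ X, ∀ b ∈ X, ⁅a, b⁆ ∈ X'
  /-- exponent 2 -/
  sq : ∀ a ∈ X, a * a ∈ X'

theorem Sec.normal (h : Sec Y X X') : (X'.subgroupOf X).Normal := by
  constructor
  intro n hn g
  rw [mem_subgroupOf] at hn ⊢
  have h1 := h.cm g g.2 n n.2
  have h2 := X'.mul_mem h1 hn
  rw [commutatorElement_def] at h2
  have e : (g : G) * n * (g : G)⁻¹ * (n : G)⁻¹ * n = g * n * (g : G)⁻¹ := by group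
  rw [e] at h2
  exact h2

/-- the section as a commutative group -/
@[reducible] def Sec.comm (h : Sec Y X X') : CommGroup (↥X ⧸ X'.subgroupOf X) :=
  haveI := h.normal
  { QuotientGroup.Quotient.group (X'.subgroupOf X) with
    mul_comm := by
      intro a b
      obtain ⟨a, rfl⟩ := QuotientGroup.mk_surjective a
      obtain ⟨b, rfl⟩ := QuotientGroup.mk_surjective b
      refine QuotientGroup.eq.2 ?_
      rw [mem_subgroupOf]
      have h1 := h.cm _ (X.inv_mem b.2) _ (X.inv_mem a.2)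
      rw [commutatorElement_def, inv_inv, inv_inv] at h1
      have e : (((a * b)⁻¹ * (b * a) : ↥X) : G) = (b : G)⁻¹ * (a : G)⁻¹ * b * a := by
        push_cast
        group
      rw [e]
      exact h1 }

/-- conjugation by `y ∈ Y` on `X` -/
def Sec.cj (h : Sec Y X X') (y : ↥Y) : ↥X →* ↥X where
  toFun x := ⟨y * x * (y : G)⁻¹, (mem_normalizer_iff.1 (h.nX y.2) x).1 x.2⟩
  map_one' := Subtype.ext (by simp)
  map_mul' a b := Subtype.ext (by simp)

theorem Sec.cj_apply (h : Sec Y X X') (y : ↥Y) (x : ↥X) : (h.cj y x : G) = y * x * (y : G)⁻¹ := rfl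

theorem Sec.cj_le (h : Sec Y X X') (y : ↥Y) : X'.subgroupOf X ≤ (X'.subgroupOf X).comap (h.cj y) := by
  intro x hx
  rw [mem_comap, mem_subgroupOf]
  exact (mem_normalizer_iff.1 (h.nX' y.2) x).1 (mem_subgroupOf.1 hx)

/-- the action of `Y` on the section -/
@[reducible] def Sec.act (h : Sec Y X X') :
    @MulDistribMulAction ↥Y (↥X ⧸ X'.subgroupOf X) _ (h.comm).toGroup.toMonoid :=
  haveI := h.normal
  letI := h.comm
  { smul := fun y n => QuotientGroup.map _ _ (h.cj y) (h.cj_le y) n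
    one_smul := by
      intro n
      obtain ⟨n, rfl⟩ := QuotientGroup.mk_surjective n
      show ((h.cj 1 n : ↥X) : ↥X ⧸ X'.subgroupOf X) = n
      congr 1
      exact Subtype.ext (by rw [h.cj_apply]; simp)
    mul_smul := by
      intro a b n
      obtain ⟨n, rfl⟩ := QuotientGroup.mk_surjective n
      show ((h.cj (a * b) n : ↥X) : ↥X ⧸ X'.subgroupOf X) = ((h.cj a (h.cj b n) : ↥X) : ↥X ⧸ X'.subgroupOf X)
      congr 1
      exact Subtype.ext (by simp only [h.cj_apply]; push_cast; group)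
    smul_mul := fun y m n => map_mul (QuotientGroup.map _ _ (h.cj y) (h.cj_le y)) m n
    smul_one := fun y => map_one (QuotientGroup.map _ _ (h.cj y) (h.cj_le y)) }

theorem four_aux {M : Type*} [CommGroup M] (a b c e : M) : a * b * c * e = c * a * (e * b) := by
  rw [mul_comm c a, mul_comm e b, mul_mul_mul_comm, ← mul_assoc]

variable [Finite G] {Q D : Subgroup G} {π : ↥Y →* Equiv.Perm (Fin 5)}

/-- **THE ODD KERNEL LEMMA** for sections. -/
theorem sect (d : Dat π (Q.subgroupOf Y) (D.subgroupOf Y)) (QY : Q ≤ Y) (h : Sec Y X X')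
    (qd : ∀ q ∈ Q, ∀ q' ∈ Q, ∀ x ∈ X, ⁅q, ⁅q', x⁆⁆ ∈ X') {v : G} (hv : v ∈ X)
    (hvN : ∀ g ∈ Y, g ∈ normalizer (Q : Set G) → ⁅g, v⁆ ∈ X') : ∀ y ∈ Y, ⁅y, v⁆ ∈ X' := by
  haveI := h.normal
  letI := h.comm
  letI := h.act
  have hsm : ∀ (y : ↥Y) (x : ↥X), y • (x : ↥X ⧸ X'.subgroupOf X) = ((h.cj y x : ↥X) : ↥X ⧸ X'.subgroupOf X) :=
    fun _ _ => rfl
  have hfix : ∀ (y : ↥Y) (x : ↥X), y • (x : ↥X ⧸ X'.subgroupOf X) = x ↔ ⁅(y : G), (x : G)⁆ ∈ X' := by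
    intro y x
    rw [hsm, QuotientGroup.eq_iff_div_mem, mem_subgroupOf, div_eq_mul_inv]
    exact Iff.rfl
  have h2 : ∀ n : ↥X ⧸ X'.subgroupOf X, n * n = 1 := by
    intro n
    obtain ⟨n, rfl⟩ := QuotientGroup.mk_surjective n
    have h3 : ((n * n : ↥X) : ↥X ⧸ X'.subgroupOf X) = 1 := by
      rw [QuotientGroup.eq_one_iff, mem_subgroupOf]
      exact h.sq n n.2
    exact h3
  have hq : ∀ q ∈ Q.subgroupOf Y, ∀ q' ∈ Q.subgroupOf Y, ∀ n : ↥X ⧸ X'.subgroupOf X,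
      n * q • n * q' • n * q • q' • n = 1 := by
    intro q hq q' hq' n
    obtain ⟨n, rfl⟩ := QuotientGroup.mk_surjective n
    have h3 := qd q hq q' hq' n n.2
    set c : ↥X := h.cj q' n * n⁻¹ with hc
    have hcc : (c : G) = ⁅(q' : G), (n : G)⁆ := by
      rw [hc, commutatorElement_def]
      push_cast
      rw [h.cj_apply]
    have h4 : q • (c : ↥X ⧸ X'.subgroupOf X) = c := by
      rw [hfix, hcc]; exact h3
    have h5 : (c : ↥X ⧸ X'.subgroupOf X) = q' • (n : ↥X ⧸ X'.subgroupOf X) * n := by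
      rw [hc, QuotientGroup.mk_mul, QuotientGroup.mk_inv, ← hsm]
      rw [inv_eq h2]
    rw [h5, smul_mul'] at h4
    set N := (n : ↥X ⧸ X'.subgroupOf X)
    calc N * q • N * q' • N * q • q' • N = (q' • N * N) * (q • q' • N * q • N) := by
          exact four_aux _ _ _ _
      _ = (q' • N * N) * (q' • N * N) := by rw [h4]
      _ = 1 := h2 _
  have hfin := modul d h2 hq (v := ((⟨v, hv⟩ : ↥X) : ↥X ⧸ X'.subgroupOf X)) (by
    intro g hg
    rw [hfix]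
    apply hvN g g.2
    rw [mem_normalizer_iff] at hg ⊢
    intro x
    constructor
    · intro hx
      exact mem_subgroupOf.1 ((hg ⟨x, QY hx⟩).1 (mem_subgroupOf.2 hx))
    · intro hx
      have h3 : x ∈ Y := by
        have h4 := Y.mul_mem (Y.mul_mem (Y.inv_mem g.2) (QY hx)) g.2
        have e : (g : G)⁻¹ * (g * x * (g : G)⁻¹) * g = x := by group
        rwa [e] at h4
      exact mem_subgroupOf.1 ((hg ⟨x, h3⟩).2 (mem_subgroupOf.2 hx)))
  intro y hy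
  exact (hfix ⟨y, hy⟩ ⟨v, hv⟩).1 (hfin ⟨y, hy⟩)

/-- the shape used in (1), (4), (4+) -/
def Ker0 (Y Q A : Subgroup G) : Prop :=
  ∀ N₁ : Subgroup G, N₁ ≤ A → Y ≤ normalizer (N₁ : Set G) → ∀ v ∈ A,
    (∀ g ∈ Y, g ∈ normalizer (Q : Set G) → ⁅g, v⁆ ∈ N₁) → ∀ y ∈ Y, ⁅y, v⁆ ∈ N₁

theorem ker0 {A : Subgroup G} (d : Dat π (Q.subgroupOf Y) (D.subgroupOf Y)) (QY : Q ≤ Y)
    (nA : Y ≤ normalizer (A : Set G)) (cm : ∀ a ∈ A, ∀ b ∈ A, a * b = b * a) (sq : ∀ a ∈ A, a * a = 1)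
    (qd : ∀ q ∈ Q, ∀ q' ∈ Q, ∀ x ∈ A, ⁅q, ⁅q', x⁆⁆ = 1) : Ker0 Y Q A := by
  intro N₁ hle hN v hv hvN
  refine sect d QY ⟨hle, nA, hN, fun a ha b hb => ?_, fun a ha => ?_⟩ (fun q hq q' hq' x hx => ?_) hv hvN
  · rw [commutatorElement_eq_one_iff_mul_comm.2 (cm a ha b hb)]; exact N₁.one_mem
  · rw [sq a ha]; exact N₁.one_mem
  · rw [qd q hq q' hq' x hx]; exact N₁.one_mem

/-- the same for a section `A/A'` -/
theorem ker0_sec {A A' : Subgroup G} (d : Dat π (Q.subgroupOf Y) (D.subgroupOf Y)) (QY : Q ≤ Y) (h : Sec Y A A')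
    (qd : ∀ q ∈ Q, ∀ q' ∈ Q, ∀ x ∈ A, ⁅q, ⁅q', x⁆⁆ ∈ A') :
    ∀ N₁ : Subgroup G, A' ≤ N₁ → N₁ ≤ A → Y ≤ normalizer (N₁ : Set G) → ∀ v ∈ A,
    (∀ g ∈ Y, g ∈ normalizer (Q : Set G) → ⁅g, v⁆ ∈ N₁) → ∀ y ∈ Y, ⁅y, v⁆ ∈ N₁ := by
  intro N₁ hA' hle hN v hv hvN
  exact sect d QY ⟨hle, h.nX, hN, fun a ha b hb => hA' (h.cm a ha b hb), fun a ha => hA' (h.sq a ha)⟩
    (fun q hq q' hq' x hx => hA' (qd q hq q' hq' x hx)) hv hvN

end sect

end Cfsg.Agent.Omega.NO3S.WY.OddKer
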