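import Mathlib

/-!
# The odd kernel lemma ((0) of THEOREM TOR, helper474 #25011): abelian normal subgroups of odd order

`H` acts on the abelian group `N` of exponent 2.

* `nm K n = ∏ k ∈ K, k • n`;
* `QP s t` : commuting `s`, `t` with `s² = t² = 1`, quadratic on `N`;
* `QP.fix` : `b` centralised by `s`, inverted by `t`; `c` inverted by `s` ⟹ `c` fixes `n (b n)`;
* `Mx A v K` : `K ≤ A` maximal with `nm K v ≠ 1`; `Mx.stab`, `Mx.two`, `Mx.conj`, `Mx.own`.
-/

set_option autoImplicit false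
set_option linter.unusedSectionVars false
set_option linter.style.haveILetI false

namespace Cfsg.Agent.Omega.NO3S.WY.OddKer

open Subgroup

section nm

variable {H N : Type*} [Group H] [Finite H] [CommGroup N] [MulDistribMulAction H N]

/-- the norm -/
noncomputable def nm (K : Subgroup H) : N →* N :=
  @Finset.prod K (N →* N) _ (@Finset.univ K (Fintype.ofFinite K)) fun k => MulDistribMulAction.toMonoidHom N (k : H)

theorem nm_apply (K : Subgroup H) (n : N) :
    nm K n = @Finset.prod K N _ (@Finset.univ K (Fintype.ofFinite K)) fun k => (k : H) • n := by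
  rw [nm, MonoidHom.finsetProd_apply]
  rfl

theorem nm_smul {K : Subgroup H} {k : H} (hk : k ∈ K) (n : N) : nm K (k • n) = nm K n := by
  letI := Fintype.ofFinite K
  rw [nm_apply, nm_apply]
  refine Fintype.prod_equiv (Equiv.mulRight (⟨k, hk⟩ : K)) _ _ fun x => ?_
  simp [mul_smul]

theorem smul_nm_self {K : Subgroup H} {k : H} (hk : k ∈ K) (n : N) : k • nm K n = nm K n := by
  letI := Fintype.ofFinite K
  rw [nm_apply, Finset.smul_prod']
  refine Fintype.prod_equiv (Equiv.mulLeft (⟨k, hk⟩ : K)) _ _ fun x => ?_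
  simp [mul_smul]

theorem smul_nm {K : Subgroup H} {g : H} (hg : ∀ k ∈ K, g * k * g⁻¹ ∈ K) (n : N) : g • nm K n = nm K (g • n) := by
  letI := Fintype.ofFinite K
  rw [nm_apply, nm_apply, Finset.smul_prod']
  let f : K → K := fun k => ⟨g * k * g⁻¹, hg k k.2⟩
  have hf : Function.Injective f := by
    intro x y hxy
    have h1 : g * (x : H) * g⁻¹ = g * y * g⁻¹ := congrArg Subtype.val hxy
    exact Subtype.ext (mul_left_cancel (mul_right_cancel h1))
  refine Fintype.prod_bijective f (Finite.injective_iff_bijective.1 hf) _ _ fun x => ?_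
  simp [f, mul_smul]

theorem pow_odd (h2 : ∀ n : N, n * n = 1) (n : N) {k : ℕ} (hk : Odd k) : n ^ k = n := by
  obtain ⟨m, rfl⟩ := hk
  rw [pow_succ, pow_mul, pow_two, h2, one_pow, one_mul]

theorem nm_fix (h2 : ∀ n : N, n * n = 1) {K : Subgroup H} (hK : Odd (Nat.card K)) {n : N} (h : ∀ k ∈ K, k • n = n) :
    nm K n = n := by
  letI := Fintype.ofFinite K
  rw [nm_apply]
  have h1 : (fun k : K => (k : H) • n) = fun _ => n := funext fun k => h k k.2
  rw [h1, Finset.prod_const, Finset.card_univ, ← Nat.card_eq_fintype_card]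
  exact pow_odd h2 n hK

theorem nm_nm (h2 : ∀ n : N, n * n = 1) {K L : Subgroup H} (hL : Odd (Nat.card L)) (hLK : L ≤ K) (n : N) :
    nm K (nm L n) = nm K n := by
  letI := Fintype.ofFinite L
  rw [nm_apply L, map_prod]
  have h1 : (fun k : L => nm K ((k : H) • n)) = fun _ => nm K n := funext fun k => nm_smul (hLK k.2) n
  rw [h1, Finset.prod_const, Finset.card_univ, ← Nat.card_eq_fintype_card]
  exact pow_odd h2 _ hL

theorem inv_eq (h2 : ∀ n : N, n * n = 1) (n : N) : n⁻¹ = n := inv_eq_of_mul_eq_one_left (h2 n)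

/-- `c` fixes `n`, if it fixes all `n (b n)`, `b ∈ E`, and `nm E n = 1`. -/
theorem fix_of_nm (h2 : ∀ n : N, n * n = 1) {E : Subgroup H} (hE : Odd (Nat.card E)) {n : N} (hn : nm E n = 1) {c : H}
    (h : ∀ b ∈ E, c • (n * b • n) = n * b • n) : c • n = n := by
  letI := Fintype.ofFinite E
  have h1 : n = ∏ b : E, (n * (b : H) • n) := by
    rw [Finset.prod_mul_distrib, ← nm_apply, hn, mul_one, Finset.prod_const, Finset.card_univ,
      ← Nat.card_eq_fintype_card, pow_odd h2 n hE]
  rw [h1, Finset.smul_prod']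
  exact Finset.prod_congr rfl fun b _ => h b b.2

theorem mem_of_sq {K : Subgroup H} {a : H} (ha : Odd (orderOf a)) (h : a * a ∈ K) : a ∈ K := by
  obtain ⟨m, hm⟩ := ha
  have h1 : a = (a * a) ^ (m + 1) := by
    rw [← pow_two, ← pow_mul]
    have h3 : 2 * (m + 1) = orderOf a + 1 := by rw [hm]; ring
    rw [h3, pow_succ, pow_orderOf_eq_one, one_mul]
  rw [h1]
  exact pow_mem h _

theorem fix_of_sq {a : H} (ha : Odd (orderOf a)) {n : N} (h : (a * a) • n = n) : a • n = n := by
  have h1 : a ∈ MulAction.stabilizer H n := mem_of_sq ha (MulAction.mem_stabilizer_iff.2 h)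
  exact MulAction.mem_stabilizer_iff.1 h1

theorem odd_order {A : Subgroup H} (hA : Odd (Nat.card A)) {a : H} (ha : a ∈ A) : Odd (orderOf a) := by
  refine Odd.of_dvd_nat hA ?_
  have h1 := orderOf_dvd_natCard (⟨a, ha⟩ : A)
  rwa [Subgroup.orderOf_mk] at h1

theorem odd_le {A K : Subgroup H} (hA : Odd (Nat.card A)) (hK : K ≤ A) : Odd (Nat.card K) :=
  Odd.of_dvd_nat hA (Subgroup.card_dvd_of_le hK)

end nm

/-! ### Quadratic pairs -/

section qp

variable (N : Type*) {H : Type*} [Group H] [CommGroup N] [MulDistribMulAction H N]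

/-- A quadratic pair of involutions. -/
structure QP (s t : H) : Prop where
  ss : s * s = 1
  tt : t * t = 1
  st : s * t = t * s
  q : ∀ n : N, n * s • n * t • n * s • t • n = 1

variable {N} {s t : H}

theorem QP.swap (h : QP N s t) : QP N t s where
  ss := h.tt
  tt := h.ss
  st := h.st.symm
  q n := by
    have h1 := h.q n
    rw [← mul_smul, h.st, mul_smul] at h1
    rw [← h1]
    exact congrArg (· * t • s • n) (mul_right_comm _ _ _)

theorem QP.third (h : QP N s t) : QP N (s * t) s where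
  ss := by rw [mul_assoc, ← mul_assoc t, ← h.st, mul_assoc s t t, h.tt, mul_one, h.ss]
  tt := h.ss
  st := by rw [h.st, mul_assoc, h.ss, mul_one, ← mul_assoc s t s, h.st, mul_assoc, h.ss, mul_one]
  q n := by
    have h1 := h.q n
    have h2 : (s * t) • s • n = t • n := by
      rw [← mul_smul, h.st, mul_assoc, h.ss, mul_one]
    rw [h2, mul_smul, ← h1]
    rw [mul_right_comm n, mul_assoc (n * s • n), mul_comm (s • t • n), ← mul_assoc]

theorem QP.conj (h : QP N s t) (g : H) : QP N (g * s * g⁻¹) (g * t * g⁻¹) where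
  ss := by
    have e : g * s * g⁻¹ * (g * s * g⁻¹) = g * (s * s) * g⁻¹ := by group
    rw [e, h.ss]; group
  tt := by
    have e : g * t * g⁻¹ * (g * t * g⁻¹) = g * (t * t) * g⁻¹ := by group
    rw [e, h.tt]; group
  st := by
    have e : g * s * g⁻¹ * (g * t * g⁻¹) = g * (s * t) * g⁻¹ := by group
    rw [e, h.st]; group
  q n := by
    have h1 := h.q (g⁻¹ • n)
    have h2 := congrArg (g • ·) h1
    simp only [smul_mul', smul_one] at h2
    rw [smul_inv_smul] at h2
    rw [← h2]
    simp only [mul_smul]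
    rw [inv_smul_smul]

theorem QP.s_inv (h : QP N s t) : s⁻¹ = s := inv_eq_of_mul_eq_one_left h.ss

theorem QP.t_inv (h : QP N s t) : t⁻¹ = t := inv_eq_of_mul_eq_one_left h.tt

theorem two_aux (h2 : ∀ n : N, n * n = 1) {x X y Y : N} (h : y * Y = x * X) : X * Y = x * y := by
  calc X * Y = X * Y * (y * y) := by rw [h2, mul_one]
    _ = X * y * (y * Y) := by rw [mul_mul_mul_comm, mul_comm Y y]
    _ = X * y * (x * X) := by rw [h]
    _ = X * X * (x * y) := by rw [mul_comm x X, mul_mul_mul_comm, mul_comm y x]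
    _ = x * y := by rw [h2, one_mul]

theorem fix_sq [Finite H] {a : H} (ha : Odd (orderOf a)) {n : N} (h : (a * a) • n = n) : a • n = n := fix_of_sq ha h

/-- `s` fixes `n (b n)` -/
theorem QP.fix_s [Finite H] (h : QP N s t) (h2 : ∀ n : N, n * n = 1) {b : H} (hb : Odd (orderOf b))
    (hsb : s * b = b * s) (htb : t * b * t⁻¹ = b⁻¹) (n : N) : s • (n * b • n) = n * b • n := by
  -- `t` fixes `n (s n)`
  have ht : ∀ n : N, t • (n * s • n) = n * s • n := by
    intro n
    have h1 := h.q n
    have h3 : t • (n * s • n) = t • n * s • t • n := by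
      rw [smul_mul', ← mul_smul, ← h.st, mul_smul]
    rw [h3]
    rw [mul_assoc] at h1
    rw [eq_inv_of_mul_eq_one_right h1, inv_eq h2]
  have h3 : (b * b) • (n * s • n) = n * s • n := by
    have h4 := ht (b • n)
    have e1 : b • n * s • b • n = b • (n * s • n) := by
      rw [smul_mul', ← mul_smul, hsb, mul_smul]
    rw [e1, ← mul_smul] at h4
    have e2 : t * b = b⁻¹ * t := by rw [← htb]; group
    rw [e2, mul_smul, ht n] at h4
    rw [mul_smul, ← h4, smul_inv_smul]
  have h4 := fix_sq hb h3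
  have h5 : b • n * s • b • n = n * s • n := by
    rw [← h4, smul_mul', ← mul_smul b s, ← hsb, mul_smul]
  rw [smul_mul']
  exact two_aux h2 h5

/-- **`c` fixes `n (b n)`** -/
theorem QP.fix [Finite H] (h : QP N s t) (h2 : ∀ n : N, n * n = 1) {b c : H} (hb : Odd (orderOf b))
    (hc : Odd (orderOf c)) (hsb : s * b * s⁻¹ = b) (htb : t * b * t⁻¹ = b⁻¹) (hsc : s * c * s⁻¹ = c⁻¹)
    (hbc : b * c = c * b) (n : N) : c • (n * b • n) = n * b • n := by
  have hsb' : s * b = b * s := by rw [← mul_inv_eq_iff_eq_mul]; exact hsb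
  have h3 := h.fix_s h2 hb hsb' htb
  have h4 := h3 (c • n)
  have e1 : c • n * b • c • n = c • (n * b • n) := by
    rw [smul_mul', ← mul_smul b, hbc, mul_smul]
  rw [e1, ← mul_smul] at h4
  have e2 : s * c = c⁻¹ * s := by rw [← hsc]; group
  rw [e2, mul_smul, h3 n] at h4
  refine fix_sq hc ?_
  rw [mul_smul, ← h4, smul_inv_smul]

end qp

/-! ### Maximal subgroups with nontrivial norm -/

section mx

variable {H N : Type*} [Group H] [Finite H] [CommGroup N] [MulDistribMulAction H N]

/-- an abelian normal subgroup of odd order -/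
structure Ab (A : Subgroup H) : Prop where
  nor : ∀ g : H, ∀ a ∈ A, g * a * g⁻¹ ∈ A
  comm : ∀ a ∈ A, ∀ b ∈ A, a * b = b * a
  odd : Odd (Nat.card A)

/-- `K ≤ A` is maximal with `nm K v ≠ 1`. -/
structure Mx (A : Subgroup H) (v : N) (K : Subgroup H) : Prop where
  le : K ≤ A
  ne : nm K v ≠ 1
  mx : ∀ L : Subgroup H, L ≤ A → K ≤ L → nm L v ≠ 1 → L ≤ K

theorem exists_mx {A : Subgroup H} {v : N} (hv : v ≠ 1) : ∃ K, Mx A v K := by
  classical
  have hne : {K : Subgroup H | K ≤ A ∧ nm K v ≠ 1}.Nonempty := by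
    refine ⟨⊥, bot_le, ?_⟩
    intro h
    apply hv
    rw [← h, nm_apply]
    letI := Fintype.ofFinite (⊥ : Subgroup H)
    have h1 : (fun k : (⊥ : Subgroup H) => (k : H) • v) = fun _ => v := by
      funext k
      have h2 : (k : H) = 1 := mem_bot.1 k.2
      rw [h2, one_smul]
    rw [h1, Finset.prod_const, Finset.card_univ, ← Nat.card_eq_fintype_card, Nat.card_unique, pow_one]
  obtain ⟨K, hK, hmax⟩ := Set.exists_max_image _ (fun K : Subgroup H => Nat.card K) (Set.toFinite _) hne
  refine ⟨K, hK.1, hK.2, fun L hLA hKL hL => ?_⟩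
  have h1 := hmax L ⟨hLA, hL⟩
  exact (Subgroup.eq_of_le_of_card_ge hKL h1).ge

variable {A K : Subgroup H} {v : N} (hA : Ab A) (h2 : ∀ n : N, n * n = 1) (m : Mx A v K)
include hA h2 m

/-- the stabiliser of `w = nm K v` in `A` is `K` -/
theorem Mx.stab {a : H} (ha : a ∈ A) (h : a • nm K v = nm K v) : a ∈ K := by
  have hL : K ⊔ zpowers a ≤ A := sup_le m.le ((zpowers_le).2 ha)
  have h3 : K ⊔ zpowers a ≤ MulAction.stabilizer H (nm K v) := by
    refine sup_le (fun k hk => ?_) ((zpowers_le).2 ?_)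
    · exact MulAction.mem_stabilizer_iff.2 (smul_nm_self hk v)
    · exact MulAction.mem_stabilizer_iff.2 h
  have h4 : nm (K ⊔ zpowers a) v = nm K v := by
    rw [← nm_nm h2 (odd_le hA.odd m.le) (le_sup_left : K ≤ K ⊔ zpowers a)]
    exact nm_fix h2 (odd_le hA.odd hL) fun k hk => MulAction.mem_stabilizer_iff.1 (h3 hk)
  exact m.mx _ hL le_sup_left (by rw [h4]; exact m.ne) (mem_sup_right (mem_zpowers a))

/-- two of three -/
theorem Mx.two {E E' : Subgroup H} (hE : E ≤ A) (hE' : E' ≤ A)
    (h : ∀ b ∈ E, ∀ c ∈ E', ∀ n : N, c • (n * b • n) = n * b • n) : E ≤ K ∨ E' ≤ K := by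
  by_contra hcon
  push Not at hcon
  have hnm : nm E (nm K v) = 1 := by
    by_contra hne
    apply hcon.1
    have hL : K ⊔ E ≤ A := sup_le m.le hE
    have h3 : K ⊔ E ≤ MulAction.stabilizer H (nm E (nm K v)) := by
      refine sup_le (fun k hk => ?_) fun e he => ?_
      · rw [MulAction.mem_stabilizer_iff, smul_nm (fun e he => ?_), smul_nm_self hk]
        have e1 : k * e * k⁻¹ = e := by rw [hA.comm k (m.le hk) e (hE he), mul_inv_cancel_right]
        rwa [e1]
      · exact MulAction.mem_stabilizer_iff.2 (smul_nm_self he _)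
    have h4 : nm (K ⊔ E) v = nm E (nm K v) := by
      rw [← nm_nm h2 (odd_le hA.odd m.le) (le_sup_left : K ≤ K ⊔ E),
        ← nm_nm h2 (odd_le hA.odd hE) (le_sup_right : E ≤ K ⊔ E)]
      exact nm_fix h2 (odd_le hA.odd hL) fun k hk => MulAction.mem_stabilizer_iff.1 (h3 hk)
    exact le_sup_right.trans (m.mx _ hL le_sup_left (by rw [h4]; exact hne))
  apply hcon.2
  intro c hc
  exact m.stab hA h2 (hE' hc) (fix_of_nm h2 (odd_le hA.odd hE) hnm fun b hb => h b hb c hc _)

end mx

end Cfsg.Agent.Omega.NO3S.WY.OddKer
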