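import Mathlib

/-!
# The odd kernel lemma: subgroups of `Perm (Fin 5)`

`alt_le` : a subgroup containing the fours group `{1, (12)(34), (13)(24), (14)(23)}` and a conjugate `γ u γ⁻¹`,
`γ 0 ≠ 0`, of one of its involutions contains the alternating group.
-/

set_option autoImplicit false

namespace Cfsg.Agent.Omega.NO3S.WY.OddKer

open Equiv Equiv.Perm

/-- `(1 2)(3 4)` -/
def sb : Perm (Fin 5) := swap 1 2 * swap 3 4

/-- `(1 3)(2 4)` -/
def tb : Perm (Fin 5) := swap 1 3 * swap 2 4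

/-- the three involutions of the fours group -/
def vv : Fin 3 → Perm (Fin 5) := ![sb, tb, sb * tb]

theorem vv_apply (i : Fin 3) : vv i * vv i = 1 ∧ vv i 0 = 0 ∧ ∀ x, x ≠ 0 → vv i x ≠ x := by
  revert i
  decide +kernel

theorem p1_aux : ∀ d : Perm (Fin 5), (d * d = 1 ∧ d 0 ≠ 0 ∧ ∃ p, p ≠ 0 ∧ d p = p ∧ ∀ x, x ≠ p → d x ≠ x) →
    ∃ w : Fin 3, ∃ x y z : Fin 5, x ≠ y ∧ x ≠ z ∧ y ≠ z ∧ d * vv w = swap x y * swap x z := by
  decide +kernel

theorem trans_aux : ∀ x y : Fin 5, x ≠ 0 → y ≠ 0 → x ≠ y → ∃ w : Fin 3, vv w x = y := by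
  decide +kernel

theorem vv_mem {X : Subgroup (Perm (Fin 5))} (hs : sb ∈ X) (ht : tb ∈ X) (i : Fin 3) : vv i ∈ X := by
  fin_cases i
  · exact hs
  · exact ht
  · exact X.mul_mem hs ht

theorem alt_le {X : Subgroup (Perm (Fin 5))} (hs : sb ∈ X) (ht : tb ∈ X) {γ : Perm (Fin 5)} (hγ : γ 0 ≠ 0) (i : Fin 3)
    (hd : γ * vv i * γ⁻¹ ∈ X) : alternatingGroup (Fin 5) ≤ X := by
  obtain ⟨v1, v2, v3⟩ := vv_apply i
  set d := γ * vv i * γ⁻¹ with hdd
  have e1 : d * d = 1 := by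
    have : d * d = γ * (vv i * vv i) * γ⁻¹ := by rw [hdd]; group
    rw [this, v1]; group
  have e2 : d (γ 0) = γ 0 := by simp [hdd, v2]
  have e3 : ∀ x, x ≠ γ 0 → d x ≠ x := by
    intro x hx h
    have h1 : vv i (γ⁻¹ x) = γ⁻¹ x := by
      have : γ (vv i (γ⁻¹ x)) = x := h
      rw [Perm.eq_inv_iff_eq, this]
    refine v3 _ ?_ h1
    intro h2
    apply hx
    rw [← h2]; simp
  have e4 : d 0 ≠ 0 := e3 0 (Ne.symm hγ)
  obtain ⟨w, x, y, z, h1, h2, h3, h4⟩ := p1_aux d ⟨e1, e4, γ 0, hγ, e2, e3⟩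
  have hc : d * vv w ∈ X := X.mul_mem hd (vv_mem hs ht w)
  have hc3 : (d * vv w).IsThreeCycle := by
    rw [h4]; exact isThreeCycle_swap_mul_swap_same h1 h2 h3
  have htr : MulAction.IsPretransitive X (Fin 5) := by
    rw [MulAction.isPretransitive_iff_base (0 : Fin 5)]
    intro x
    by_cases hx : x = 0
    · exact ⟨1, by rw [one_smul, hx]⟩
    by_cases hx' : d 0 = x
    · exact ⟨⟨d, hd⟩, hx'⟩
    obtain ⟨w, hw⟩ := trans_aux (d 0) x e4 hx hx'
    exact ⟨⟨vv w * d, X.mul_mem (vv_mem hs ht w) hd⟩, hw⟩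
  have hpr : MulAction.IsPreprimitive X (Fin 5) := by
    apply MulAction.IsPreprimitive.of_prime_card
    rw [Nat.card_eq_fintype_card, Fintype.card_fin]
    norm_num
  exact alternatingGroup_le_of_isPreprimitive_of_isThreeCycle_mem hpr hc3 hc

end Cfsg.Agent.Omega.NO3S.WY.OddKer
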