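import Cfsg.Agent.Omega.NO3S.WY.OddKerA
import Cfsg.Agent.Omega.NO3S.WY.OddKerP

/-!
# The odd kernel lemma: step 1 (abelian normal subgroups of the kernel fix the vector)
-/

set_option autoImplicit false
set_option linter.unusedSectionVars false

namespace Cfsg.Agent.Omega.NO3S.WY.OddKer

open Subgroup

section gam

variable {H : Type*} [Group H]

/-- `g` centralises `A/K` -/
def Cen (A K : Subgroup H) (g : H) : Prop := ∀ a ∈ A, g * a * g⁻¹ * a⁻¹ ∈ K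

/-- `g` inverts `A/K` -/
def Inv (A K : Subgroup H) (g : H) : Prop := ∀ a ∈ A, g * a * g⁻¹ * a ∈ K

variable [Finite H] {A K : Subgroup H} (hA : Ab A) (hK : K ≤ A)

theorem Cen.norm (hK : K ≤ A) {g : H} (h : Cen A K g) {k : H} (hk : k ∈ K) : g * k * g⁻¹ ∈ K := by
  have h1 := K.mul_mem (h k (hK hk)) hk
  rwa [inv_mul_cancel_right] at h1

theorem Inv.norm (hK : K ≤ A) {g : H} (h : Inv A K g) {k : H} (hk : k ∈ K) : g * k * g⁻¹ ∈ K := by
  have h1 := K.mul_mem (h k (hK hk)) (K.inv_mem hk)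
  rwa [mul_inv_cancel_right] at h1

theorem Cen.one : Cen A K 1 := fun a _ => by
  rw [one_mul, inv_one, mul_one, mul_inv_cancel]; exact K.one_mem

theorem Cen.mul (hK : K ≤ A) {g h : H} (hg : Cen A K g) (hh : Cen A K h) : Cen A K (g * h) := by
  intro a ha
  have e : g * h * a * (g * h)⁻¹ * a⁻¹ = g * (h * a * h⁻¹ * a⁻¹) * g⁻¹ * (g * a * g⁻¹ * a⁻¹) := by group
  rw [e]
  exact K.mul_mem (hg.norm hK (hh a ha)) (hg a ha)

include hA in
theorem Cen.inv {g : H} (hg : Cen A K g) : Cen A K g⁻¹ := by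
  intro a ha
  have hb : g⁻¹ * a * g⁻¹⁻¹ ∈ A := hA.nor g⁻¹ a ha
  have h1 := K.inv_mem (hg _ hb)
  have e : (g * (g⁻¹ * a * g⁻¹⁻¹) * g⁻¹ * (g⁻¹ * a * g⁻¹⁻¹)⁻¹)⁻¹ = g⁻¹ * a * g⁻¹⁻¹ * a⁻¹ := by group
  rwa [e] at h1

theorem Cen.mul_inv (hK : K ≤ A) {g h : H} (hg : Cen A K g) (hh : Inv A K h) : Inv A K (g * h) := by
  intro a ha
  have e : g * h * a * (g * h)⁻¹ * a = g * (h * a * h⁻¹ * a) * g⁻¹ * (g * a⁻¹ * g⁻¹ * a⁻¹⁻¹) := by group
  rw [e]
  exact K.mul_mem (hg.norm hK (hh a ha)) (hg _ (A.inv_mem ha))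

theorem Inv.mul_cen (hK : K ≤ A) {g h : H} (hg : Inv A K g) (hh : Cen A K h) : Inv A K (g * h) := by
  intro a ha
  have e : g * h * a * (g * h)⁻¹ * a = g * (h * a * h⁻¹ * a⁻¹) * g⁻¹ * (g * a * g⁻¹ * a) := by group
  rw [e]
  exact K.mul_mem (hg.norm hK (hh a ha)) (hg _ ha)

theorem Inv.mul_inv (hK : K ≤ A) {g h : H} (hg : Inv A K g) (hh : Inv A K h) : Cen A K (g * h) := by
  intro a ha
  have e : g * h * a * (g * h)⁻¹ * a⁻¹ = g * (h * a * h⁻¹ * a) * g⁻¹ * (g * a⁻¹ * g⁻¹ * a⁻¹) := by group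
  rw [e]
  exact K.mul_mem (hg.norm hK (hh a ha)) (hg _ (A.inv_mem ha))

include hA in
theorem Inv.inv {g : H} (hg : Inv A K g) : Inv A K g⁻¹ := by
  intro a ha
  have hb : g⁻¹ * a * g⁻¹⁻¹ ∈ A := hA.nor g⁻¹ a ha
  have h1 := hg _ hb
  have e : g * (g⁻¹ * a * g⁻¹⁻¹) * g⁻¹ = a := by group
  rw [e] at h1
  rwa [hA.comm _ hb a ha]

/-- the centraliser of `A/K` -/
def G1 : Subgroup H where
  carrier := {g | Cen A K g}
  one_mem' := Cen.one
  mul_mem' := fun hg hh => Cen.mul hK hg hh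
  inv_mem' := fun hg => Cen.inv hA hg

/-- the group of all elements centralising or inverting `A/K` -/
def G0 : Subgroup H where
  carrier := {g | Cen A K g ∨ Inv A K g}
  one_mem' := Or.inl Cen.one
  mul_mem' := by
    rintro g h (hg | hg) (hh | hh)
    · exact Or.inl (hg.mul hK hh)
    · exact Or.inr (hg.mul_inv hK hh)
    · exact Or.inr (hg.mul_cen hK hh)
    · exact Or.inl (hg.mul_inv hK hh)
  inv_mem' := by
    rintro g (hg | hg)
    · exact Or.inl (hg.inv hA)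
    · exact Or.inr (hg.inv hA)

theorem mem_G1 {g : H} : g ∈ G1 hA hK ↔ Cen A K g := Iff.rfl

theorem mem_G0 {g : H} : g ∈ G0 hA hK ↔ Cen A K g ∨ Inv A K g := Iff.rfl

theorem sq_mem_G1 {g : H} (hg : g ∈ G0 hA hK) : g * g ∈ G1 hA hK := by
  rcases hg with hg | hg
  · exact hg.mul hK hg
  · exact hg.mul_inv hK hg

/-- the part of `A` centralised by `s` and inverted by `t` -/
def EE (s t : H) : Subgroup H where
  carrier := {a | a ∈ A ∧ s * a * s⁻¹ = a ∧ t * a * t⁻¹ = a⁻¹}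
  one_mem' := ⟨A.one_mem, by group, by group⟩
  mul_mem' := by
    rintro a b ⟨ha, ha1, ha2⟩ ⟨hb, hb1, hb2⟩
    refine ⟨A.mul_mem ha hb, ?_, ?_⟩
    · have e : s * (a * b) * s⁻¹ = s * a * s⁻¹ * (s * b * s⁻¹) := by group
      rw [e, ha1, hb1]
    · have e : t * (a * b) * t⁻¹ = t * a * t⁻¹ * (t * b * t⁻¹) := by group
      rw [e, ha2, hb2, hA.comm a ha b hb, mul_inv_rev]
  inv_mem' := by
    rintro a ⟨ha, ha1, ha2⟩
    refine ⟨A.inv_mem ha, ?_, ?_⟩
    · have e : s * a⁻¹ * s⁻¹ = (s * a * s⁻¹)⁻¹ := by group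
      rw [e, ha1]
    · have e : t * a⁻¹ * t⁻¹ = (t * a * t⁻¹)⁻¹ := by group
      rw [e, ha2]

theorem mem_EE {s t a : H} : a ∈ EE hA s t ↔ a ∈ A ∧ s * a * s⁻¹ = a ∧ t * a * t⁻¹ = a⁻¹ := Iff.rfl

theorem EE_le (s t : H) : EE hA s t ≤ A := fun _ h => h.1

end gam

section three

variable {H N : Type*} [Group H] [Finite H] [CommGroup N] [MulDistribMulAction H N]
variable {A K : Subgroup H} {v : N} (hA : Ab A) (h2 : ∀ n : N, n * n = 1) (m : Mx A v K)
variable {s t : H} (hq : QP N s t)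
include hq h2 m

theorem two12 : EE hA s t ≤ K ∨ EE hA t s ≤ K := by
  refine m.two hA h2 (EE_le hA s t) (EE_le hA t s) fun b hb c hc n => ?_
  obtain ⟨hb0, hb1, hb2⟩ := hb
  obtain ⟨hc0, hc1, hc2⟩ := hc
  exact hq.fix h2 (odd_order hA.odd hb0) (odd_order hA.odd hc0) hb1 hb2 hc2 (hA.comm b hb0 c hc0) n

theorem two13 : EE hA s t ≤ K ∨ EE hA (s * t) s ≤ K := by
  refine m.two hA h2 (EE_le hA s t) (EE_le hA (s * t) s) fun b hb c hc n => ?_
  obtain ⟨hb0, hb1, hb2⟩ := hb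
  obtain ⟨hc0, hc1, hc2⟩ := hc
  exact hq.fix h2 (odd_order hA.odd hb0) (odd_order hA.odd hc0) hb1 hb2 hc2 (hA.comm b hb0 c hc0) n

theorem two23 : EE hA t s ≤ K ∨ EE hA (s * t) s ≤ K := by
  refine m.two hA h2 (EE_le hA t s) (EE_le hA (s * t) s) fun b hb c hc n => ?_
  obtain ⟨hb0, hb1, hb2⟩ := hb
  obtain ⟨hc0, hc1, hc2⟩ := hc
  refine hq.swap.fix h2 (odd_order hA.odd hb0) (odd_order hA.odd hc0) hb1 hb2 ?_ (hA.comm b hb0 c hc0) n
  have e1 : t = s * (s * t) := by rw [← mul_assoc, hq.ss, one_mul]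
  have e2 : t * c * t⁻¹ = s * (s * t * c * (s * t)⁻¹) * s⁻¹ := by
    conv_lhs => rw [e1]
    group
  rw [e2, hc1, hc2]

omit h2 m hq
include hA

/-- `s` centralises `A/K` as soon as `K` contains everything inverted by `s` and (fixed or inverted) by `t`. -/
theorem cent_of {s t : H} (ss : s * s = 1) (tt : t * t = 1) (st : s * t = t * s)
    (h12 : ∀ a ∈ A, s * a * s⁻¹ = a⁻¹ → t * a * t⁻¹ = a → a ∈ K)
    (h13 : ∀ a ∈ A, s * a * s⁻¹ = a⁻¹ → t * a * t⁻¹ = a⁻¹ → a ∈ K) : Cen A K s := by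
  have si : s⁻¹ = s := inv_eq_of_mul_eq_one_left ss
  have ti : t⁻¹ = t := inv_eq_of_mul_eq_one_left tt
  intro a ha
  set y := s * a * s⁻¹ * a⁻¹ with hy
  have hyA : y ∈ A := A.mul_mem (hA.nor s a ha) (A.inv_mem ha)
  have hsy : s * y * s⁻¹ = y⁻¹ := by
    have e : s * y * s⁻¹ = (s * s) * a * s⁻¹ * a⁻¹ * s⁻¹ := by rw [hy]; group
    rw [e, ss, one_mul, hy]
    have e2 : (s * a * s⁻¹ * a⁻¹)⁻¹ = a * s * a⁻¹ * s⁻¹ := by group
    rw [e2, si]
  set y' := t * y * t⁻¹ with hy'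
  have hy'A : y' ∈ A := hA.nor t y hyA
  have hsy' : s * y' * s⁻¹ = y'⁻¹ := by
    have e : s * y' * s⁻¹ = (s * t) * y * (s * t)⁻¹ := by rw [hy']; group
    have e2 : (t * s) * y * (t * s)⁻¹ = t * (s * y * s⁻¹) * t⁻¹ := by group
    rw [e, st, e2, hsy, hy']
    group
  have hty' : t * y' * t⁻¹ = y := by
    have e : t * y' * t⁻¹ = (t * t) * y * (t * t)⁻¹ := by rw [hy']; group
    rw [e, tt]
    group
  have hc := hA.comm y hyA y' hy'A
  have hu : y * y' ∈ K := by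
    apply h12 _ (A.mul_mem hyA hy'A)
    · have e : s * (y * y') * s⁻¹ = s * y * s⁻¹ * (s * y' * s⁻¹) := by group
      rw [e, hsy, hsy', hc]
      exact (mul_inv_rev y' y).symm
    · have e : t * (y * y') * t⁻¹ = t * y * t⁻¹ * (t * y' * t⁻¹) := by group
      rw [e, hty', ← hy', ← hc]
  have hw : y * y'⁻¹ ∈ K := by
    apply h13 _ (A.mul_mem hyA (A.inv_mem hy'A))
    · have e : s * (y * y'⁻¹) * s⁻¹ = s * y * s⁻¹ * (s * y' * s⁻¹)⁻¹ := by group
      rw [e, hsy, hsy']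
      refine Eq.trans ?_ (mul_inv_rev y y'⁻¹).symm
      exact (hA.comm _ (A.inv_mem (A.inv_mem hy'A)) _ (A.inv_mem hyA)).symm
    · have e : t * (y * y'⁻¹) * t⁻¹ = t * y * t⁻¹ * (t * y' * t⁻¹)⁻¹ := by group
      rw [e, hty', ← hy']
      refine Eq.trans ?_ (mul_inv_rev y y'⁻¹).symm
      rw [inv_inv]
  apply mem_of_sq (odd_order hA.odd hyA)
  have h1 := K.mul_mem hu hw
  have e : y * y' * (y * y'⁻¹) = y * y := by rw [hc]; rw [mul_assoc, ← mul_assoc y y, hA.comm (y * y) (A.mul_mem hyA hyA) y'⁻¹ (A.inv_mem hy'A)]; group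
  rwa [e] at h1

theorem inv_of {s t : H} (ss : s * s = 1) (tt : t * t = 1) (st : s * t = t * s)
    (h0 : ∀ a ∈ A, s * a * s⁻¹ = a → t * a * t⁻¹ = a → a ∈ K) (hs : Cen A K s) : Inv A K t := by
  have si : s⁻¹ = s := inv_eq_of_mul_eq_one_left ss
  have ti : t⁻¹ = t := inv_eq_of_mul_eq_one_left tt
  intro a ha
  have hta := hA.nor t a ha
  set y := t * a * t⁻¹ * a with hy
  have hyA : y ∈ A := A.mul_mem hta ha
  have hty : t * y * t⁻¹ = y := by
    have e : t * y * t⁻¹ = (t * t) * a * (t * t)⁻¹ * (t * a * t⁻¹) := by rw [hy]; group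
    rw [e, tt, hy, one_mul, inv_one, mul_one]
    exact hA.comm a ha _ hta
  have hsyA := hA.nor s y hyA
  have hc := hA.comm y hyA _ hsyA
  have hu : y * (s * y * s⁻¹) ∈ K := by
    apply h0 _ (A.mul_mem hyA hsyA)
    · have e : s * (y * (s * y * s⁻¹)) * s⁻¹ = s * y * s⁻¹ * ((s * s) * y * (s * s)⁻¹) := by group
      rw [e, ss, one_mul, inv_one, mul_one, ← hc]
    · have e : t * (y * (s * y * s⁻¹)) * t⁻¹ = t * y * t⁻¹ * ((t * s) * y * (t * s)⁻¹) := by group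
      have e2 : (s * t) * y * (s * t)⁻¹ = s * (t * y * t⁻¹) * s⁻¹ := by group
      rw [e, ← st, e2, hty]
  have hw : y * (s * y * s⁻¹)⁻¹ ∈ K := by
    have h1 := K.inv_mem (hs y hyA)
    rwa [mul_inv_rev, inv_inv] at h1
  apply mem_of_sq (odd_order hA.odd hyA)
  have h1 := K.mul_mem hu hw
  have e : y * (s * y * s⁻¹) * (y * (s * y * s⁻¹)⁻¹) = y * y := by
    rw [hc, mul_assoc, ← mul_assoc y y, hA.comm (y * y) (A.mul_mem hyA hyA) _ (A.inv_mem hsyA)]; group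
  rwa [e] at h1

include hq h2 m

/-- one of the three involutions centralises `A/K` -/
theorem one_cen : Cen A K s ∨ Cen A K t ∨ Cen A K (s * t) := by
  have ss := hq.ss
  have tt := hq.tt
  have st := hq.st
  have h1 := two12 hA h2 m hq
  have h2' := two13 hA h2 m hq
  have h3 := two23 hA h2 m hq
  -- membership in the third part
  have m3 : ∀ a ∈ A, s * a * s⁻¹ = a⁻¹ → t * a * t⁻¹ = a⁻¹ → a ∈ EE hA (s * t) s := by
    intro a ha ha1 ha2
    refine ⟨ha, ?_, ha1⟩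
    have e : s * t * a * (s * t)⁻¹ = s * (t * a * t⁻¹) * s⁻¹ := by group
    have e2 : s * a⁻¹ * s⁻¹ = (s * a * s⁻¹)⁻¹ := by group
    rw [e, ha2, e2, ha1, inv_inv]
  have c1 : EE hA t s ≤ K → EE hA (s * t) s ≤ K → Cen A K s := fun k2 k3 =>
    cent_of hA ss tt st (fun a ha ha1 ha2 => k2 ⟨ha, ha2, ha1⟩) fun a ha ha1 ha2 => k3 (m3 a ha ha1 ha2)
  have c2 : EE hA s t ≤ K → EE hA (s * t) s ≤ K → Cen A K t := fun k1 k3 =>
    cent_of hA tt ss st.symm (fun a ha ha1 ha2 => k1 ⟨ha, ha2, ha1⟩) fun a ha ha1 ha2 => k3 (m3 a ha ha2 ha1)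
  have c3 : EE hA s t ≤ K → EE hA t s ≤ K → Cen A K (s * t) := fun k1 k2 => by
    have q3 := hq.third
    refine cent_of hA q3.ss q3.tt q3.st (fun a ha ha1 ha2 => ?_) fun a ha ha1 ha2 => ?_
    · -- `s` fixes, `st` inverts: `t` inverts
      refine k1 ⟨ha, ha2, ?_⟩
      have e : t * a * t⁻¹ = s⁻¹ * (s * t * a * (s * t)⁻¹) * s := by group
      have e2 : s⁻¹ * a⁻¹ * s = (s⁻¹ * a * s)⁻¹ := by group
      have e3 : s⁻¹ * a * s = a := by
        conv_lhs => rw [← ha2]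
        group
      rw [e, ha1, e2, e3]
    · -- `s` inverts, `st` inverts: `t` fixes
      refine k2 ⟨ha, ?_, ha2⟩
      have e : t * a * t⁻¹ = s⁻¹ * (s * t * a * (s * t)⁻¹) * s := by group
      have e3 : s⁻¹ * a⁻¹ * s = a := by
        conv_lhs => rw [← ha2]
        group
      rw [e, ha1, e3]
  tauto

/-- with `C_A(s,t) ≤ K`: both are in `G0`, and one of them inverts -/
theorem own (h0 : ∀ a ∈ A, s * a * s⁻¹ = a → t * a * t⁻¹ = a → a ∈ K) :
    s ∈ G0 hA m.le ∧ t ∈ G0 hA m.le ∧ (Inv A K s ∨ Inv A K t) := by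
  have ss := hq.ss
  have tt := hq.tt
  have st := hq.st
  rcases one_cen hA h2 m hq with h | h | h
  · have h1 := inv_of hA ss tt st h0 h
    exact ⟨Or.inl h, Or.inr h1, Or.inr h1⟩
  · have h1 := inv_of hA tt ss st.symm (fun a ha ha1 ha2 => h0 a ha ha2 ha1) h
    exact ⟨Or.inr h1, Or.inl h, Or.inl h1⟩
  · have q3 := hq.third
    have h1 : Inv A K s := inv_of hA q3.ss q3.tt q3.st (fun a ha ha1 ha2 => h0 a ha ha2 (by
      have e : t * a * t⁻¹ = s⁻¹ * (s * t * a * (s * t)⁻¹) * s := by group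
      have e3 : s⁻¹ * a * s = a := by
        conv_lhs => rw [← ha2]
        group
      rw [e, ha1, e3])) h
    have h3 : Inv A K t := by
      have h4 := h1.mul_cen m.le h
      rwa [← mul_assoc, ss, one_mul] at h4
    exact ⟨Or.inr h1, Or.inr h3, Or.inl h1⟩

end three

/-! ### Step 1 -/

section step1

variable {H N : Type*} [Group H] [Finite H] [CommGroup N] [MulDistribMulAction H N]

theorem tri_sq {X Y : Subgroup (Equiv.Perm (Fin 5))} (hX : alternatingGroup (Fin 5) ≤ X) (h : ∀ x ∈ X, x * x ∈ Y) :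
    alternatingGroup (Fin 5) ≤ Y := by
  rw [← Equiv.Perm.closure_three_cycles_eq_alternating, closure_le]
  intro c hc
  have hc : c.IsThreeCycle := hc
  have h1 : c * c ∈ X := hX (hc.isThreeCycle_sq.mem_alternatingGroup)
  have h3 := h _ h1
  have h4 : c * c * (c * c) = c := by
    have h5 : c ^ 3 = 1 := by rw [← hc.orderOf, pow_orderOf_eq_one]
    have e : c * c * (c * c) = c ^ 3 * c := by simp only [pow_succ, pow_zero, one_mul, mul_assoc]
    rw [e, h5, one_mul]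
  rwa [h4] at h3

theorem step1 (h2 : ∀ n : N, n * n = 1) (π : H →* Equiv.Perm (Fin 5)) (hodd : Odd (Nat.card π.ker)) {s t : H}
    (hq : QP N s t) (hs : π s = sb) (ht : π t = tb) (hg : ∃ g, π g 0 ≠ 0) {v : N}
    (hv : ∀ g : H, g * s * g⁻¹ = s → g * t * g⁻¹ = t → g • v = v) {A : Subgroup H} (hA : Ab A) (hAk : A ≤ π.ker) :
    ∀ a ∈ A, a • v = v := by
  by_contra hcon
  push Not at hcon
  obtain ⟨a0, ha0, hne⟩ := hcon
  set v' := v * nm A v with hv'
  have hv1 : v' ≠ 1 := by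
    intro h
    have h3 : v = nm A v := by rw [← inv_eq h2 (nm A v)]; exact eq_inv_of_mul_eq_one_left h
    apply hne
    rw [h3]
    exact smul_nm_self ha0 v
  have hnm : nm A v' = 1 := by rw [hv', map_mul, nm_nm h2 hA.odd le_rfl, h2]
  obtain ⟨K, m⟩ := exists_mx (A := A) hv1
  have hvf : ∀ g : H, g * s * g⁻¹ = s → g * t * g⁻¹ = t → g • v' = v' := by
    intro g h3 h4
    rw [hv', smul_mul', smul_nm (hA.nor g), hv g h3 h4]
  have h0 : ∀ a ∈ A, s * a * s⁻¹ = a → t * a * t⁻¹ = a → a ∈ K := by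
    intro a ha h3 h4
    apply m.stab hA h2 ha
    rw [smul_nm (fun k hk => ?_), hvf a]
    · have h5 : s * a = a * s := by rw [← mul_inv_eq_iff_eq_mul]; exact h3
      rw [← h5]; group
    · have h5 : t * a = a * t := by rw [← mul_inv_eq_iff_eq_mul]; exact h4
      rw [← h5]; group
    · rw [hA.comm a ha k (m.le hk), mul_inv_cancel_right]; exact hk
  obtain ⟨hs0, ht0, hor⟩ := own hA h2 m hq h0
  obtain ⟨g, hg⟩ := hg
  have hX0 : alternatingGroup (Fin 5) ≤ (G0 hA m.le).map π := by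
    have h3 : sb ∈ (G0 hA m.le).map π := ⟨s, hs0, hs⟩
    have h4 : tb ∈ (G0 hA m.le).map π := ⟨t, ht0, ht⟩
    rcases one_cen hA h2 m (hq.conj g) with h | h | h
    · exact alt_le h3 h4 hg 0 ⟨_, Or.inl h, by simp [vv, hs]⟩
    · exact alt_le h3 h4 hg 1 ⟨_, Or.inl h, by simp [vv, ht]⟩
    · refine alt_le h3 h4 hg 2 ⟨_, Or.inl h, ?_⟩
      have e : g * s * g⁻¹ * (g * t * g⁻¹) = g * (s * t) * g⁻¹ := by group
      rw [e]
      simp [vv, hs, ht]
  have hX1 : alternatingGroup (Fin 5) ≤ (G1 hA m.le).map π := by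
    refine tri_sq hX0 ?_
    rintro _ ⟨x, hx, rfl⟩
    exact ⟨x * x, sq_mem_G1 hA m.le hx, by rw [map_mul]⟩
  -- an element of `G0` whose image is even is in `G1`
  have hkey : ∀ r ∈ G0 hA m.le, π r ∈ alternatingGroup (Fin 5) → r ∈ G1 hA m.le := by
    intro r hr hra
    obtain ⟨y, hy, hyr⟩ := hX1 hra
    have hz : y⁻¹ * r ∈ π.ker := by rw [MonoidHom.mem_ker, map_mul, map_inv, hyr, inv_mul_cancel]
    have hy0 : y ∈ G0 hA m.le := Or.inl hy
    have hz0 : y⁻¹ * r ∈ G0 hA m.le := mul_mem (inv_mem hy0) hr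
    have hz1 : y⁻¹ * r ∈ G1 hA m.le := mem_of_sq (odd_order hodd hz) (sq_mem_G1 hA m.le hz0)
    have h3 := mul_mem (show y ∈ G1 hA m.le from hy) hz1
    rwa [mul_inv_cancel_left] at h3
  have hfin : ∀ r : H, Inv A K r → Cen A K r → False := by
    intro r h3 h4
    have hAK : A ≤ K := by
      intro a ha
      apply mem_of_sq (odd_order hA.odd ha)
      have h5 := K.mul_mem (K.inv_mem (h4 a ha)) (h3 a ha)
      have e : (r * a * r⁻¹ * a⁻¹)⁻¹ * (r * a * r⁻¹ * a) = a * a := by group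
      rwa [e] at h5
    apply m.ne
    rw [le_antisymm m.le hAK]
    exact hnm
  have hsa : sb ∈ alternatingGroup (Fin 5) := by
    rw [Equiv.Perm.mem_alternatingGroup]; decide +kernel
  have hta : tb ∈ alternatingGroup (Fin 5) := by
    rw [Equiv.Perm.mem_alternatingGroup]; decide +kernel
  rcases hor with h | h
  · exact hfin s h (hkey s hs0 (hs ▸ hsa))
  · exact hfin t h (hkey t ht0 (ht ▸ hta))

end step1

end Cfsg.Agent.Omega.NO3S.WY.OddKer
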