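import Cfsg.Agent.Omega.NO3S.WY.OddKerB
import Cfsg.Agent.SignalizersComponents.RelSylow

/-!
# The odd kernel lemma: `core` (the kernel acts faithfully) and `modul` (modules)
-/

set_option autoImplicit false
set_option linter.unusedSectionVars false
set_option linter.style.haveILetI false

namespace Cfsg.Agent.Omega.NO3S.WY.OddKer

open Subgroup Cfsg.Agent.SignalizersComponents.RelSylow
open scoped commutatorElement

/-- A nontrivial solvable normal subgroup contains a nontrivial abelian one. -/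
theorem exists_ab {H : Type*} [Group H] [Finite H] (R : Subgroup H) [R.Normal] [hs : Group.IsSolvable ↥R]
    (hodd : Odd (Nat.card R)) (hR : R ≠ ⊥) : ∃ A : Subgroup H, A ≤ R ∧ A ≠ ⊥ ∧ Ab A := by
  classical
  have hex : ∃ n, (derivedSeries ↥R n).map R.subtype = ⊥ := by
    obtain ⟨n, hn⟩ := hs.solvable
    exact ⟨n, by rw [hn, Subgroup.map_bot]⟩
  obtain ⟨n, hn, hmin⟩ : ∃ n, (derivedSeries ↥R n).map R.subtype = ⊥ ∧
      ∀ m < n, (derivedSeries ↥R m).map R.subtype ≠ ⊥ :=
    ⟨Nat.find hex, Nat.find_spec hex, fun m hm => Nat.find_min hex hm⟩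
  rcases n with _ | n
  · exfalso
    apply hR
    rw [derivedSeries_zero] at hn
    rw [← hn, ← MonoidHom.range_eq_map, Subgroup.range_subtype]
  · refine ⟨(derivedSeries ↥R n).map R.subtype, ?_, hmin n (Nat.lt_succ_self n), ?_, ?_, ?_⟩
    · rintro _ ⟨x, _, rfl⟩; exact x.2
    · intro g a ha
      have : ((derivedSeries ↥R n).map R.subtype).Normal := inferInstance
      exact this.conj_mem a ha g
    · rintro _ ⟨x, hx, rfl⟩ _ ⟨y, hy, rfl⟩
      have h1 : ⁅x, y⁆ ∈ derivedSeries ↥R (n + 1) := by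
        rw [derivedSeries_succ]
        exact commutator_mem_commutator hx hy
      have h2 : ((⁅x, y⁆ : ↥R) : H) ∈ (derivedSeries ↥R (n + 1)).map R.subtype := ⟨_, h1, rfl⟩
      rw [hn, mem_bot] at h2
      have h3 : ⁅x, y⁆ = 1 := Subtype.ext h2
      rw [commutatorElement_eq_one_iff_mul_comm] at h3
      exact congrArg Subtype.val h3
    · refine odd_le hodd ?_
      rintro _ ⟨x, _, rfl⟩; exact x.2

/-! ### The faithful case -/

theorem v0_conj : ∀ γ : Equiv.Perm (Fin 5), γ 0 = 0 →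
    (γ * sb * γ⁻¹ = sb ∨ γ * sb * γ⁻¹ = tb ∨ γ * sb * γ⁻¹ = sb * tb) ∧
      (γ * tb * γ⁻¹ = sb ∨ γ * tb * γ⁻¹ = tb ∨ γ * tb * γ⁻¹ = sb * tb) := by
  decide +kernel

theorem alt_trans (X : Subgroup (Equiv.Perm (Fin 5))) (hX : alternatingGroup (Fin 5) ≤ X) (i : Fin 5) :
    ∃ x ∈ X, x 0 = i := by
  have h1 : ∀ i : Fin 5, ∃ x : Equiv.Perm (Fin 5), Equiv.Perm.sign x = 1 ∧ x 0 = i := by decide +kernel
  obtain ⟨x, hx, hi⟩ := h1 i
  exact ⟨x, hX (Equiv.Perm.mem_alternatingGroup.2 hx), hi⟩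

section core

variable {H N : Type*} [Group H] [Finite H] [CommGroup N] [MulDistribMulAction H N]

theorem core (h2 : ∀ n : N, n * n = 1) (π : H →* Equiv.Perm (Fin 5)) (hodd : Odd (Nat.card π.ker))
    (hsol : Group.IsSolvable ↥π.ker) (hf : ∀ g ∈ π.ker, (∀ n : N, g • n = n) → g = 1) {s t : H}
    (hq : QP N s t) (hs : π s = sb) (ht : π t = tb) (hA5 : alternatingGroup (Fin 5) ≤ π.range) {v : N}
    (hgen : closure (Set.range fun g : H => g • v) = ⊤)
    (hv : ∀ g : H, (g * s * g⁻¹ = s ∨ g * s * g⁻¹ = t ∨ g * s * g⁻¹ = s * t) →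
      (g * t * g⁻¹ = s ∨ g * t * g⁻¹ = t ∨ g * t * g⁻¹ = s * t) → g • v = v) :
    ∀ g : H, g • v = v := by
  -- the kernel is trivial
  have hker : π.ker = ⊥ := by
    by_contra hne
    haveI := hsol
    obtain ⟨A, hAk, hA1, hA⟩ := exists_ab π.ker hodd hne
    obtain ⟨_, ⟨g, rfl⟩, hg⟩ := alt_trans π.range hA5 1
    have h3 : ∀ a ∈ A, a • v = v := step1 h2 π hodd hq hs ht ⟨g, by rw [hg]; decide⟩
      (fun g h4 h5 => hv g (Or.inl h4) (Or.inr (Or.inl h5))) hA hAk
    apply hA1
    rw [eq_bot_iff]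
    intro a ha
    rw [mem_bot]
    apply hf a (hAk ha)
    intro n
    have hn : n ∈ closure (Set.range fun g : H => g • v) := by rw [hgen]; exact mem_top n
    induction hn using closure_induction with
    | mem x hx =>
      obtain ⟨g, rfl⟩ := hx
      have h4 := h3 (g⁻¹ * a * g⁻¹⁻¹) (hA.nor g⁻¹ a ha)
      have e : a * g = g * (g⁻¹ * a * g⁻¹⁻¹) := by group
      show a • g • v = g • v
      rw [← mul_smul, e, mul_smul, h4]
    | one => exact smul_one a
    | mul x y _ _ hx hy => rw [smul_mul', hx, hy]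
    | inv x _ hx => rw [smul_inv', hx]
  have hinj : Function.Injective π := (MonoidHom.ker_eq_bot_iff π).1 hker
  -- the stabiliser of the letter `0` fixes `v`
  have hst : ∀ g : H, π g 0 = 0 → g • v = v := by
    intro g hg
    obtain ⟨h3, h4⟩ := v0_conj (π g) hg
    apply hv g
    · rcases h3 with h | h | h
      · left; apply hinj; rw [map_mul, map_mul, map_inv, hs, h]
      · right; left; apply hinj; rw [map_mul, map_mul, map_inv, hs, ht, h]
      · right; right; apply hinj; rw [map_mul, map_mul, map_mul, map_inv, hs, ht, h]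
    · rcases h4 with h | h | h
      · left; apply hinj; rw [map_mul, map_mul, map_inv, hs, ht, h]
      · right; left; apply hinj; rw [map_mul, map_mul, map_inv, ht, h]
      · right; right; apply hinj; rw [map_mul, map_mul, map_mul, map_inv, hs, ht, h]
  have hex : ∀ i : Fin 5, ∃ g : H, π g 0 = i := by
    intro i
    obtain ⟨_, ⟨g, rfl⟩, hg⟩ := alt_trans π.range hA5 i
    exact ⟨g, hg⟩
  choose r hr using hex
  have hact : ∀ g : H, ∀ i : Fin 5, g • (r i • v) = r (π g i) • v := by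
    intro g i
    have h3 : ((r (π g i))⁻¹ * (g * r i)) • v = v := by
      apply hst
      rw [map_mul, map_inv, map_mul, Equiv.Perm.mul_apply, Equiv.Perm.mul_apply, hr, Equiv.Perm.inv_eq_iff_eq, hr]
    rw [mul_smul, inv_smul_eq_iff, mul_smul] at h3
    exact h3
  have hprod : r 1 • v * r 2 • v * r 3 • v * r 4 • v = 1 := by
    have h3 := hq.q (r 1 • v)
    rw [hact t, hact s, hact s, hs, ht] at h3
    have e1 : sb 1 = 2 := by decide +kernel
    have e2 : tb 1 = 3 := by decide +kernel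
    have e3 : sb (tb 1) = 4 := by decide +kernel
    rwa [e1, e3, e2] at h3
  have hp : ∏ i : Fin 5, r i • v = r 0 • v := by
    rw [Fin.prod_univ_five]
    have e : r 0 • v * r 1 • v * r 2 • v * r 3 • v * r 4 • v = r 0 • v * (r 1 • v * r 2 • v * r 3 • v * r 4 • v) := by
      simp only [mul_assoc]
    rw [e, hprod, mul_one]
  have h0 : r 0 • v = v := hst _ (hr 0)
  intro g
  have h3 : g • (∏ i : Fin 5, r i • v) = ∏ i : Fin 5, r i • v := by
    rw [Finset.smul_prod']
    rw [Finset.prod_congr rfl fun i _ => hact g i]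
    exact Equiv.prod_comp (π g) fun i => r i • v
  rw [hp, h0] at h3
  exact h3

end core

end Cfsg.Agent.Omega.NO3S.WY.OddKer
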