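import Cfsg.Agent.Omega.NO3S.WY.OddKerC

/-!
# The odd kernel lemma: modules for `Y`
-/

set_option autoImplicit false
set_option linter.unusedSectionVars false
set_option linter.style.haveILetI false

namespace Cfsg.Agent.Omega.NO3S.WY.OddKer

open Subgroup Cfsg.Agent.SignalizersComponents.RelSylow
open scoped commutatorElement

/-- The group-theoretic data: `π : Y → S_5`, `D = O_2(Y)`, `Q` induces the fours group fixing the letter `0`. -/
structure Dat {Y : Type*} [Group Y] (π : Y →* Equiv.Perm (Fin 5)) (Q D : Subgroup Y) : Prop where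
  /-- `D` is normal -/
  nor : D.Normal
  /-- `D` is a 2-group -/
  D2 : IsPGroup 2 D
  /-- `Q` is a 2-group -/
  Q2 : IsPGroup 2 Q
  /-- `D ≤ ker π` -/
  Dk : D ≤ π.ker
  /-- `|ker π : D|` is odd -/
  ko : Odd (D.relIndex π.ker)
  /-- `ker π` is solvable -/
  sol : Group.IsSolvable ↥π.ker
  /-- the image contains `A_5` -/
  alt : alternatingGroup (Fin 5) ≤ π.range
  /-- `Q` induces `V_4` -/
  sQ : ∃ s ∈ Q, π s = sb
  /-- `Q` induces `V_4` -/
  tQ : ∃ t ∈ Q, π t = tb
  /-- `Q` induces `V_4` -/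
  vQ : ∀ q ∈ Q, π q = 1 ∨ π q = sb ∨ π q = tb ∨ π q = sb * tb
  /-- `D` normalises `Q` -/
  DQ : D ≤ normalizer (Q : Set Y)
  /-- `Q` is weakly closed -/
  wc : normalizer ((Q ⊔ D : Subgroup Y) : Set Y) ≤ normalizer (Q : Set Y)

variable {Y : Type*} [Group Y] [Finite Y] {π : Y →* Equiv.Perm (Fin 5)} {Q D : Subgroup Y}

theorem Dat.mem_D (d : Dat π Q D) {x : Y} (hx : x ∈ π.ker) {k : ℕ} (h : x ^ 2 ^ k = 1) : x ∈ D := by
  haveI := d.nor
  have h1 : x ^ D.relIndex π.ker ∈ D := pow_relIndex_mem D hx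
  have h3 : x ∈ zpowers (x ^ D.relIndex π.ker) := by
    rw [mem_zpowers_pow_iff]
    have h4 : orderOf x ∣ 2 ^ k := orderOf_dvd_of_pow_eq_one h
    have h5 : Nat.Coprime (D.relIndex π.ker) (2 ^ k) :=
      Nat.Coprime.pow_right k ((Nat.coprime_two_right).2 d.ko)
    exact Nat.Coprime.coprime_dvd_right h4 h5
  exact (zpowers_le.2 h1) h3

theorem Dat.inf_le (d : Dat π Q D) {x : Y} (hQ : x ∈ Q) (hx : x ∈ π.ker) : x ∈ D := by
  obtain ⟨k, hk⟩ := d.Q2 ⟨x, hQ⟩
  exact d.mem_D hx (congrArg Subtype.val hk)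

theorem mem_norm {P : Subgroup Y} {y : Y} (h : ∀ x ∈ P, y * x * y⁻¹ ∈ P) : y ∈ normalizer (P : Set Y) := by
  rw [mem_normalizer_iff]
  intro x
  refine ⟨h x, fun hx => ?_⟩
  let f : P → P := fun k => ⟨y * k * y⁻¹, h k k.2⟩
  have hf : Function.Injective f := by
    intro a b hab
    have h1 : y * (a : Y) * y⁻¹ = y * b * y⁻¹ := congrArg Subtype.val hab
    exact Subtype.ext (mul_left_cancel (mul_right_cancel h1))
  obtain ⟨k, hk⟩ := Finite.surjective_of_injective hf ⟨y * x * y⁻¹, hx⟩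
  have h1 : y * (k : Y) * y⁻¹ = y * x * y⁻¹ := congrArg Subtype.val hk
  have h2 : (k : Y) = x := mul_left_cancel (mul_right_cancel h1)
  rw [← h2]
  exact k.2

section modul

variable {N : Type*} [CommGroup N] [MulDistribMulAction Y N]

/-- the submodule generated by `v` -/
def gen (Y : Type*) [Group Y] {N : Type*} [CommGroup N] [MulDistribMulAction Y N] (v : N) : Subgroup N :=
  closure (Set.range fun y : Y => y • v)

theorem smul_gen {Y : Type*} [Group Y] {N : Type*} [CommGroup N] [MulDistribMulAction Y N] {v : N} (y : Y) {n : N}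
    (hn : n ∈ gen Y v) : y • n ∈ gen Y v := by
  unfold gen at hn ⊢
  induction hn using closure_induction with
  | mem x hx =>
    obtain ⟨g, rfl⟩ := hx
    exact subset_closure ⟨y * g, by show (y * g) • v = y • g • v; rw [mul_smul]⟩
  | one => rw [smul_one]; exact one_mem _
  | mul x z _ _ hx hz => rw [smul_mul']; exact mul_mem hx hz
  | inv x _ hx => rw [smul_inv']; exact inv_mem hx

/-- the action on the submodule -/
@[reducible] def genAct (Y : Type*) [Group Y] {N : Type*} [CommGroup N] [MulDistribMulAction Y N] (v : N) :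
    MulDistribMulAction Y ↥(gen Y v) where
  smul y n := ⟨y • (n : N), smul_gen y n.2⟩
  one_smul n := Subtype.ext (one_smul Y (n : N))
  mul_smul x y n := Subtype.ext (mul_smul x y (n : N))
  smul_mul y m n := Subtype.ext (smul_mul' y (m : N) (n : N))
  smul_one y := Subtype.ext (smul_one y)

/-- **The odd kernel lemma for modules** -/
theorem modul (d : Dat π Q D) (h2 : ∀ n : N, n * n = 1)
    (hq : ∀ q ∈ Q, ∀ q' ∈ Q, ∀ n : N, n * q • n * q' • n * q • q' • n = 1) {v : N}
    (hv : ∀ g ∈ normalizer (Q : Set Y), g • v = v) : ∀ y : Y, y • v = v := by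
  haveI := d.nor
  letI act := genAct Y v
  let ρ : Y →* MulAut ↥(gen Y v) × Equiv.Perm (Fin 5) := (MulDistribMulAction.toMulAut Y ↥(gen Y v)).prod π
  have hρ1 : ∀ y (n : ↥(gen Y v)), (ρ y).1 n = y • n := fun _ _ => rfl
  have hρ2 : ∀ y, (ρ y).2 = π y := fun _ => rfl
  let f : ↥ρ.range →* MulAut ↥(gen Y v) := (MonoidHom.fst _ _).comp ρ.range.subtype
  letI actH : MulDistribMulAction ↥ρ.range ↥(gen Y v) := MulDistribMulAction.compHom _ f
  haveI : Finite ↥ρ.range := Finite.of_surjective _ ρ.rangeRestrict_surjective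
  have hsm : ∀ y (n : ↥(gen Y v)), (ρ.rangeRestrict y) • n = y • n := fun _ _ => rfl
  let π' : ↥ρ.range →* Equiv.Perm (Fin 5) := (MonoidHom.snd _ _).comp ρ.range.subtype
  have hπ' : ∀ y, π' (ρ.rangeRestrict y) = π y := fun _ => rfl
  let w : ↥(gen Y v) := ⟨v, subset_closure ⟨1, one_smul Y v⟩⟩
  have hwy : ∀ y : Y, ((y • w : ↥(gen Y v)) : N) = y • v := fun _ => rfl
  have hgenw : closure (Set.range fun y : Y => y • w) = ⊤ := by
    rw [eq_top_iff]
    intro n _
    have h3 : (n : N) ∈ (closure (Set.range fun y : Y => y • w)).map (gen Y v).subtype := by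
      rw [MonoidHom.map_closure]
      have : (gen Y v).subtype '' (Set.range fun y : Y => y • w) = Set.range fun y : Y => y • v := by
        rw [← Set.range_comp]; rfl
      rw [this]
      exact n.2
    obtain ⟨m, hm, hmn⟩ := h3
    have : m = n := Subtype.ext hmn
    rwa [this] at hm
  -- `D` acts trivially
  have hDtriv : ∀ x ∈ D, ∀ n : ↥(gen Y v), x • n = n := by
    intro x hx n
    have hn : n ∈ closure (Set.range fun y : Y => y • w) := by rw [hgenw]; exact mem_top n
    induction hn using closure_induction with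
    | mem z hz =>
      obtain ⟨g, rfl⟩ := hz
      show x • g • w = g • w
      have e : x * g = g * (g⁻¹ * x * g) := by group
      have h3 : g⁻¹ * x * g ∈ D := by
        have := d.nor.conj_mem x hx g⁻¹
        rwa [inv_inv] at this
      have h4 : (g⁻¹ * x * g) • w = w := Subtype.ext (hv _ (d.DQ h3))
      rw [← mul_smul, e, mul_smul, h4]
    | one => exact smul_one x
    | mul y z _ _ hy hz => rw [smul_mul', hy, hz]
    | inv y _ hy => rw [smul_inv', hy]
  have hDρ : D ≤ ρ.ker := by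
    intro x hx
    rw [MonoidHom.mem_ker]
    refine Prod.ext (MulEquiv.ext fun n => hDtriv x hx n) ?_
    exact (MonoidHom.mem_ker).1 (d.Dk hx)
  have hkermem : ∀ x, x ∈ ρ.ker ↔ (∀ n : ↥(gen Y v), x • n = n) ∧ π x = 1 := by
    intro x
    rw [MonoidHom.mem_ker, Prod.ext_iff]
    constructor
    · rintro ⟨h3, h4⟩
      exact ⟨fun n => by
        have := DFunLike.congr_fun h3 n
        exact this, h4⟩
    · rintro ⟨h3, h4⟩
      exact ⟨MulEquiv.ext fun n => h3 n, h4⟩
  have hker' : π'.ker = π.ker.map ρ.rangeRestrict := by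
    ext x
    obtain ⟨y, rfl⟩ := ρ.rangeRestrict_surjective x
    constructor
    · intro hx
      exact ⟨y, hx, rfl⟩
    · rintro ⟨z, hz, hzy⟩
      rw [← hzy]
      exact hz
  have hodd : Odd (Nat.card π'.ker) := by
    rw [hker', ← relIndex_ker, MonoidHom.ker_rangeRestrict]
    exact Odd.of_dvd_nat d.ko (relIndex_dvd_of_le_left _ hDρ)
  have hsol : Group.IsSolvable ↥π'.ker := by
    rw [hker']
    haveI := d.sol
    exact Group.isSolvable_of_surjective (ρ.rangeRestrict.subgroupMap_surjective π.ker)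
  have hρeq : ∀ x y : Y, x * y⁻¹ ∈ ρ.ker → ρ.rangeRestrict x = ρ.rangeRestrict y := by
    intro x y h
    rw [← MonoidHom.ker_rangeRestrict, MonoidHom.mem_ker, map_mul, map_inv, mul_inv_eq_one] at h
    exact h
  have hQeq : ∀ x ∈ Q, ∀ y ∈ Q, π x = π y → ρ.rangeRestrict x = ρ.rangeRestrict y := by
    intro x hx y hy h
    apply hρeq
    apply hDρ
    apply d.inf_le (mul_mem hx (inv_mem hy))
    rw [MonoidHom.mem_ker, map_mul, map_inv, h, mul_inv_cancel]
  obtain ⟨s, hsQ, hs⟩ := d.sQ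
  obtain ⟨t, htQ, ht⟩ := d.tQ
  have hb1 : sb * sb = 1 := by decide +kernel
  have hb2 : tb * tb = 1 := by decide +kernel
  have hb3 : sb * tb = tb * sb := by decide +kernel
  have hqp : QP ↥(gen Y v) (ρ.rangeRestrict s) (ρ.rangeRestrict t) := by
    refine ⟨?_, ?_, ?_, ?_⟩
    · rw [← map_mul, ← map_one ρ.rangeRestrict]
      exact hQeq _ (mul_mem hsQ hsQ) _ (one_mem Q) (by rw [map_mul, hs, hb1, map_one])
    · rw [← map_mul, ← map_one ρ.rangeRestrict]
      exact hQeq _ (mul_mem htQ htQ) _ (one_mem Q) (by rw [map_mul, ht, hb2, map_one])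
    · rw [← map_mul, ← map_mul]
      exact hQeq _ (mul_mem hsQ htQ) _ (mul_mem htQ hsQ) (by rw [map_mul, map_mul, hs, ht, hb3])
    · intro n
      exact Subtype.ext (hq s hsQ t htQ (n : N))
  have hA5 : alternatingGroup (Fin 5) ≤ π'.range := by
    intro x hx
    obtain ⟨y, hy⟩ := d.alt hx
    exact ⟨ρ.rangeRestrict y, hy⟩
  have hgen : closure (Set.range fun g : ↥ρ.range => g • w) = ⊤ := by
    rw [← hgenw]
    congr 1
    ext n
    constructor
    · rintro ⟨x, rfl⟩
      obtain ⟨y, rfl⟩ := ρ.rangeRestrict_surjective x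
      exact ⟨y, rfl⟩
    · rintro ⟨y, rfl⟩
      exact ⟨ρ.rangeRestrict y, rfl⟩
  have hf : ∀ g ∈ π'.ker, (∀ n : ↥(gen Y v), g • n = n) → g = 1 := by
    intro g hg hn
    apply Subtype.ext
    refine Prod.ext (MulEquiv.ext fun n => hn n) ?_
    exact hg
  -- elements of the image of `Q`
  have hQim : ∀ q ∈ Q, ρ.rangeRestrict q = 1 ∨ ρ.rangeRestrict q = ρ.rangeRestrict s ∨
      ρ.rangeRestrict q = ρ.rangeRestrict t ∨ ρ.rangeRestrict q = ρ.rangeRestrict s * ρ.rangeRestrict t := by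
    intro q hq
    rcases d.vQ q hq with h | h | h | h
    · left; rw [← map_one ρ.rangeRestrict]; exact hQeq q hq 1 (one_mem Q) (by rw [h, map_one])
    · right; left; exact hQeq q hq s hsQ (by rw [h, hs])
    · right; right; left; exact hQeq q hq t htQ (by rw [h, ht])
    · right; right; right; rw [← map_mul]; exact hQeq q hq _ (mul_mem hsQ htQ) (by rw [h, map_mul, hs, ht])
  have hTim : ∀ x : ↥ρ.range, (x = ρ.rangeRestrict s ∨ x = ρ.rangeRestrict t ∨
      x = ρ.rangeRestrict s * ρ.rangeRestrict t) → x ∈ Q.map ρ.rangeRestrict := by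
    rintro x (rfl | rfl | rfl)
    · exact ⟨s, hsQ, rfl⟩
    · exact ⟨t, htQ, rfl⟩
    · exact ⟨s * t, mul_mem hsQ htQ, map_mul _ _ _⟩
  have hfix : ∀ g : ↥ρ.range, (g * ρ.rangeRestrict s * g⁻¹ = ρ.rangeRestrict s ∨
      g * ρ.rangeRestrict s * g⁻¹ = ρ.rangeRestrict t ∨
      g * ρ.rangeRestrict s * g⁻¹ = ρ.rangeRestrict s * ρ.rangeRestrict t) →
      (g * ρ.rangeRestrict t * g⁻¹ = ρ.rangeRestrict s ∨ g * ρ.rangeRestrict t * g⁻¹ = ρ.rangeRestrict t ∨
      g * ρ.rangeRestrict t * g⁻¹ = ρ.rangeRestrict s * ρ.rangeRestrict t) → g • w = w := by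
    intro g h3 h4
    obtain ⟨y, rfl⟩ := ρ.rangeRestrict_surjective g
    have h3' := hTim _ h3
    have h4' := hTim _ h4
    have h5 : ∀ q ∈ Q, ρ.rangeRestrict (y * q * y⁻¹) ∈ Q.map ρ.rangeRestrict := by
      intro q hq
      rw [map_mul, map_mul, map_inv]
      rcases hQim q hq with h | h | h | h
      · rw [h, mul_one, mul_inv_cancel]; exact one_mem _
      · rw [h]; exact h3'
      · rw [h]; exact h4'
      · rw [h]
        have e : ρ.rangeRestrict y * (ρ.rangeRestrict s * ρ.rangeRestrict t) * (ρ.rangeRestrict y)⁻¹ =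
          ρ.rangeRestrict y * ρ.rangeRestrict s * (ρ.rangeRestrict y)⁻¹ *
          (ρ.rangeRestrict y * ρ.rangeRestrict t * (ρ.rangeRestrict y)⁻¹) := by group
        rw [e]
        exact mul_mem h3' h4'
    -- `y` normalises `Q ρ.ker`
    have h6 : ∀ x ∈ Q ⊔ ρ.ker, y * x * y⁻¹ ∈ Q ⊔ ρ.ker := by
      intro x hx
      obtain ⟨q, hq, r, hr, rfl⟩ := mem_sup_of_normal_right.1 hx
      have e : y * (q * r) * y⁻¹ = y * q * y⁻¹ * (y * r * y⁻¹) := by group
      rw [e]
      have hr' : y * r * y⁻¹ ∈ ρ.ker := (inferInstance : ρ.ker.Normal).conj_mem r hr y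
      refine mul_mem ?_ (mem_sup_right hr')
      obtain ⟨q', hq', h7⟩ := h5 q hq
      have h8 : q'⁻¹ * (y * q * y⁻¹) ∈ ρ.ker := by
        rw [← MonoidHom.ker_rangeRestrict, MonoidHom.mem_ker, map_mul, map_inv, h7, inv_mul_cancel]
      have e2 : y * q * y⁻¹ = q' * (q'⁻¹ * (y * q * y⁻¹)) := by group
      rw [e2]
      exact mul_mem_sup hq' h8
    have hyn : y ∈ normalizer ((Q ⊔ ρ.ker : Subgroup Y) : Set Y) := by
      exact mem_norm h6
    -- the Sylow subgroup
    have hQD2 : IsPGroup 2 ↥(Q ⊔ D : Subgroup Y) := d.Q2.to_sup_of_normal_right d.D2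
    have hQDle : Q ⊔ D ≤ Q ⊔ ρ.ker := sup_le_sup_left hDρ Q
    obtain ⟨P, hP, hQP⟩ := exists_isMaxP hQD2 hQDle
    have hPeq : P = Q ⊔ D := by
      refine le_antisymm ?_ hQP
      intro x hx
      obtain ⟨q, hq, r, hr, hqr⟩ := mem_sup_of_normal_right.1 (hP.2.1 hx)
      have hrP : r ∈ P := by
        have : r = q⁻¹ * x := by rw [← hqr]; group
        rw [this]
        exact mul_mem (inv_mem (hQP (mem_sup_left hq))) hx
      obtain ⟨k, hk⟩ := hP.1 ⟨r, hrP⟩
      have hrD : r ∈ D := d.mem_D (MonoidHom.mem_ker.2 ((hkermem r).1 hr).2) (congrArg Subtype.val hk)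
      rw [← hqr]
      exact mul_mem_sup hq hrD
    subst hPeq
    haveI : Fact (Nat.Prime 2) := ⟨Nat.prime_two⟩
    obtain ⟨c, hc, hcy⟩ := (hP.map_conj_mem hyn).exists_conj hP
    have hcyn : c * y ∈ normalizer ((Q ⊔ D : Subgroup Y) : Set Y) := by
      refine mem_norm fun x hx => ?_
      rw [← hcy, mem_map_conj, mem_map_conj]
      have e : y⁻¹ * (c⁻¹ * (c * y * x * (c * y)⁻¹) * c) * y = x := by group
      rw [e]
      exact hx
    have h7 : (c * y) • v = v := hv _ (d.wc hcyn)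
    have h8 : c • v = v := by
      obtain ⟨q, hq, r, hr, rfl⟩ := mem_sup_of_normal_right.1 hc
      have h9 : r • v = v := congrArg Subtype.val (((hkermem r).1 hr).1 w)
      rw [mul_smul, h9]
      exact hv q (le_normalizer hq)
    have h9 : y • v = v := by
      have e : y = c⁻¹ * (c * y) := by group
      rw [e, mul_smul, h7, inv_smul_eq_iff, h8]
    exact Subtype.ext h9
  have hfin := core (fun n => Subtype.ext (h2 (n : N))) π' hodd hsol hf hqp (by rw [hπ', hs]) (by rw [hπ', ht]) hA5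
    hgen hfix
  intro y
  exact congrArg Subtype.val (hfin (ρ.rangeRestrict y))

end modul

end Cfsg.Agent.Omega.NO3S.WY.OddKer
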