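import Cfsg.Agent.Omega.NO3S.WY.OddKerSol
import Cfsg.Agent.S0205

/-!
# Solvability of `ker π` from the odd order theorem
-/

set_option autoImplicit false

namespace Cfsg.Agent.Omega.NO3S.WY.OddKer

open Subgroup

/-- `|K : D|` odd, `D` a normal 2-subgroup: `K` is solvable. -/
theorem sol_of_odd {Y : Type*} [Group Y] [Finite Y] (K D : Subgroup Y) (nor : D.Normal) (D2 : IsPGroup 2 D)
    (ko : Odd (D.relIndex K)) : Group.IsSolvable ↥K :=
  sol_of_ft (fun _ _ _ h => Cfsg.Agent.S0205.result h) K D nor D2 ko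

end Cfsg.Agent.Omega.NO3S.WY.OddKer
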