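import Mathlib

/-!
# Solvability of `ker π` from solvability modulo the 2-group `D`
-/

set_option autoImplicit false
set_option linter.style.haveILetI false

namespace Cfsg.Agent.Omega.NO3S.WY.OddKer

open Subgroup

universe u

variable {Y : Type u} [Group Y] [Finite Y]

theorem sol_of_quot (K D : Subgroup Y) (nor : D.Normal) (D2 : IsPGroup 2 D)
    (hs : Group.IsSolvable (↥K ⧸ D.subgroupOf K)) : Group.IsSolvable ↥K := by
  haveI : Fact (Nat.Prime 2) := ⟨Nat.prime_two⟩
  have h2 : IsPGroup 2 (D.subgroupOf K) := D2.comap_of_injective K.subtype K.subtype_injective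
  haveI : Group.IsNilpotent ↥(D.subgroupOf K) := h2.isNilpotent
  haveI : Group.IsSolvable ↥(D.subgroupOf K) := inferInstance
  haveI := hs
  refine Group.isSolvable_of_ker_le_range (D.subgroupOf K).subtype (QuotientGroup.mk' (D.subgroupOf K)) ?_
  rw [QuotientGroup.ker_mk', Subgroup.range_subtype]

/-- `Feit–Thompson` as a hypothesis -/
theorem sol_of_ft (ft : ∀ (H : Type u) [Group H] [Finite H], Odd (Nat.card H) → Group.IsSolvable H) (K D : Subgroup Y)
    (nor : D.Normal) (D2 : IsPGroup 2 D) (ko : Odd (D.relIndex K)) : Group.IsSolvable ↥K := by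
  refine sol_of_quot K D nor D2 (ft _ ?_)
  exact ko

end Cfsg.Agent.Omega.NO3S.WY.OddKer
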