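import Cfsg.Agent.MinSimple.MinParabolic
import Cfsg.Agent.Omega.TTn.DiCoreAbs
import Cfsg.Agent.ZN.ChoiceBase

/-!
# (TOR), `k ≥ 3`: the end (T5) of bb OMEGA #24652 (helper150)

`L ≤ W₁ × .. × W_k`, `S` permutes the `W i` transitively, `K = K₁` acts on `W₁` as `SL₂(4)` and centralises the other
`W i`, every `S`-minimal `R ≤ ⟨K, S⟩` normalises `L` or fixes `z₀ = z₁ .. z_k`: then `K` normalises `L`
(`Tor.le_norm`), `Tor.false_of`.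
-/

set_option autoImplicit false
set_option linter.unusedSectionVars false

namespace Cfsg.Agent.Omega.NO3S.WY.TorEnd

open Subgroup Cfsg Cfsg.Agent.ZN.ChoiceBase Cfsg.Agent.MinSimple.VModule Cfsg.Agent.MinSimple.MinParabolic

variable {G : Type*} [Group G] {ι : Type*}

/-- the situation of (T5) -/
structure Tor (S L K : Subgroup G) (W : ι → Subgroup G) (z : ι → G) (z₀ : G) (i₀ : ι) : Prop where
  two : IsPGroup 2 S
  syl : ¬ 2 ∣ S.index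
  nS : normalizer (S : Set G) ≤ normalizer (L : Set G)
  par : ∀ R : Subgroup G, IsMinPar S R → R ≤ K ⊔ S →
    R ≤ normalizer (L : Set G) ∨ ∀ r ∈ R, r * z₀ * r⁻¹ = z₀
  ind : ∀ i, W i ⊓ (⨆ j, ⨆ (_ : j ≠ i), W j) = ⊥
  zW : ∀ i, z i ∈ W i
  z0 : ∀ i, ∃ y ∈ (⨆ j, ⨆ (_ : j ≠ i), W j), z₀ = z i * y
  perm : ∀ s ∈ S, ∀ i, ∃ j, cj s (W i) = W j
  tr : ∀ i, ∃ s ∈ S, cj s (W i₀) = W i
  zs : ∀ s ∈ S, ∀ i, cj s (W i₀) = W i → s * z i₀ * s⁻¹ = z i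
  LW : L ≤ ⨆ i, W i
  KN : K ≤ normalizer (W i₀ : Set G)
  KC : ∀ j, j ≠ i₀ → K ≤ centralizer (W j : Set G)
  /-- `K^s` and `K` agree on `W₁` if `s ∈ S` normalises `W₁` -/
  Ks : ∀ s ∈ S, cj s (W i₀) = W i₀ → ∀ κ ∈ K, ∃ κ' ∈ K, ∀ w ∈ W i₀,
    s * κ * s⁻¹ * w * (s * κ * s⁻¹)⁻¹ = κ' * w * κ'⁻¹
  K2 : ∀ κ ∈ K, κ * z i₀ * κ⁻¹ = z i₀ → ∀ w ∈ W i₀, κ ^ 2 * w * (κ ^ 2)⁻¹ = w

/-- the elements which act on every `W i = W₁^s` as an element of `K^s` -/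
def NN (S K : Subgroup G) (W : ι → Subgroup G) (i₀ : ι) : Subgroup G where
  carrier := {g | (∀ i, g ∈ normalizer (W i : Set G)) ∧ ∀ s ∈ S, ∀ i, cj s (W i₀) = W i →
    ∃ κ ∈ K, κ ∈ normalizer (W i₀ : Set G) ∧
      ∀ w ∈ W i₀, (s⁻¹ * g * s) * w * (s⁻¹ * g * s)⁻¹ = κ * w * κ⁻¹}
  one_mem' := ⟨fun i => one_mem _, fun s _ i _ => ⟨1, one_mem _, one_mem _, fun w _ => by group⟩⟩
  mul_mem' := by
    rintro g g' ⟨h1, h2⟩ ⟨h1', h2'⟩
    refine ⟨fun i => mul_mem (h1 i) (h1' i), fun s hs i hi => ?_⟩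
    obtain ⟨κ, hκ, hκn, h⟩ := h2 s hs i hi
    obtain ⟨κ', hκ', hκn', h'⟩ := h2' s hs i hi
    refine ⟨κ * κ', mul_mem hκ hκ', mul_mem hκn hκn', fun w hw => ?_⟩
    have e1 : s⁻¹ * (g * g') * s * w * (s⁻¹ * (g * g') * s)⁻¹ =
        (s⁻¹ * g * s) * ((s⁻¹ * g' * s) * w * (s⁻¹ * g' * s)⁻¹) * (s⁻¹ * g * s)⁻¹ := by group
    rw [e1, h' w hw, h _ ((mem_normalizer_iff.1 hκn' w).1 hw)]
    group
  inv_mem' := by
    rintro g ⟨h1, h2⟩
    refine ⟨fun i => inv_mem (h1 i), fun s hs i hi => ?_⟩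
    obtain ⟨κ, hκ, hκn, h⟩ := h2 s hs i hi
    refine ⟨κ⁻¹, inv_mem hκ, inv_mem hκn, fun w hw => ?_⟩
    have hw' : κ⁻¹ * w * κ ∈ W i₀ := by
      have := (mem_normalizer_iff.1 (inv_mem hκn) w).1 hw
      simpa using this
    have h3 := h _ hw'
    have e1 : κ * (κ⁻¹ * w * κ) * κ⁻¹ = w := by group
    rw [e1] at h3
    calc s⁻¹ * g⁻¹ * s * w * (s⁻¹ * g⁻¹ * s)⁻¹
        = s⁻¹ * g⁻¹ * s * (s⁻¹ * g * s * (κ⁻¹ * w * κ) * (s⁻¹ * g * s)⁻¹) * (s⁻¹ * g⁻¹ * s)⁻¹ := by rw [h3]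
      _ = κ⁻¹ * w * κ⁻¹⁻¹ := by group

theorem mem_norm_cj {g t : G} {H : Subgroup G} (h : g ∈ normalizer (H : Set G)) :
    t * g * t⁻¹ ∈ normalizer ((cj t H : Subgroup G) : Set G) := by
  rw [mem_normalizer_iff]
  intro x
  rw [mem_cj, mem_cj]
  have e : t⁻¹ * (t * g * t⁻¹ * x * (t * g * t⁻¹)⁻¹) * t = g * (t⁻¹ * x * t) * g⁻¹ := by group
  rw [e]
  exact mem_normalizer_iff.1 h _

namespace Tor

variable {S L K : Subgroup G} {W : ι → Subgroup G} {z : ι → G} {z₀ : G} {i₀ : ι}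

theorem K_le (h : Tor S L K W z z₀ i₀) : K ≤ NN S K W i₀ := by
  intro κ hκ
  refine ⟨fun i => ?_, fun s hs i hi => ?_⟩
  · by_cases e : i = i₀
    · subst e; exact h.KN hκ
    · exact centralizer_le_normalizer _ (h.KC i e hκ)
  · by_cases e : i = i₀
    · subst e
      have h1 : cj s⁻¹ (W i) = W i := by
        conv_lhs => rw [← hi]
        exact cj_inv_cj _ _
      obtain ⟨κ', hκ', h2⟩ := h.Ks s⁻¹ (inv_mem hs) h1 κ hκ
      refine ⟨κ', hκ', h.KN hκ', fun w hw => ?_⟩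
      have := h2 w hw
      rwa [inv_inv] at this
    · refine ⟨1, one_mem _, one_mem _, fun w hw => ?_⟩
      have h1 : s * w * s⁻¹ ∈ W i := by
        rw [← hi, mem_cj]
        have e2 : s⁻¹ * (s * w * s⁻¹) * s = w := by group
        rwa [e2]
      have h2 := mem_centralizer_iff.1 (h.KC i e hκ) _ h1
      have h3 : κ * (s * w * s⁻¹) * κ⁻¹ = s * w * s⁻¹ := by rw [← h2]; group
      calc s⁻¹ * κ * s * w * (s⁻¹ * κ * s)⁻¹ = s⁻¹ * (κ * (s * w * s⁻¹) * κ⁻¹) * s := by group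
        _ = 1 * w * 1⁻¹ := by rw [h3]; group

theorem S_norm (h : Tor S L K W z z₀ i₀) : S ≤ normalizer (NN S K W i₀ : Set G) := by
  have key : ∀ t ∈ S, ∀ g ∈ NN S K W i₀, t * g * t⁻¹ ∈ NN S K W i₀ := by
    rintro t ht g ⟨h1, h2⟩
    refine ⟨fun i => ?_, fun s hs i hi => ?_⟩
    · obtain ⟨j, hj⟩ := h.perm t⁻¹ (inv_mem ht) i
      have h3 : W i = cj t (W j) := by rw [← hj, cj_cj_inv]
      rw [h3]
      exact mem_norm_cj (h1 j)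
    · obtain ⟨j, hj⟩ := h.perm t⁻¹ (inv_mem ht) i
      obtain ⟨κ, hκ, hκn, h4⟩ := h2 (t⁻¹ * s) (mul_mem (inv_mem ht) hs) j (by rw [← cj_cj, hi, hj])
      refine ⟨κ, hκ, hκn, fun w hw => ?_⟩
      rw [← h4 w hw]
      group
  intro t ht
  rw [mem_normalizer_iff]
  intro g
  refine ⟨key t ht g, fun hg => ?_⟩
  have := key t⁻¹ (inv_mem ht) _ hg
  have e : t⁻¹ * (t * g * t⁻¹) * t⁻¹⁻¹ = g := by group
  rwa [e] at this

theorem odd_le [Finite G] (h : Tor S L K W z z₀ i₀) : oddGen (K ⊔ S) ≤ NN S K W i₀ := by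
  refine (oddGen_mono (sup_le_sup_right h.K_le S)).trans ?_
  exact oddGen_le_of_sup (sup_le le_normalizer h.S_norm) le_rfl le_sup_right le_sup_left h.two

/-- an element of `NN` which fixes `z₀` fixes every `z i` -/
theorem fix (h : Tor S L K W z z₀ i₀) {g : G} (hg : g ∈ NN S K W i₀) (hz : g * z₀ * g⁻¹ = z₀) (i : ι) :
    g * z i * g⁻¹ = z i := by
  obtain ⟨y, hy, e⟩ := h.z0 i
  have hgy : g * y * g⁻¹ ∈ ⨆ j, ⨆ (_ : j ≠ i), W j := by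
    have h1 : cj g (⨆ j, ⨆ (_ : j ≠ i), W j) ≤ ⨆ j, ⨆ (_ : j ≠ i), W j := by
      unfold cj
      rw [Subgroup.map_iSup]
      refine iSup_le fun j => ?_
      rw [Subgroup.map_iSup]
      refine iSup_le fun hj => ?_
      refine le_trans ?_ (le_iSup₂_of_le j hj le_rfl)
      rintro _ ⟨w, hw, rfl⟩
      exact (mem_normalizer_iff.1 (hg.1 j) w).1 hw
    exact h1 ⟨y, hy, rfl⟩
  have h2 : (z i)⁻¹ * (g * z i * g⁻¹) = y * (g * y * g⁻¹)⁻¹ := by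
    have h3 : g * z i * g⁻¹ * (g * y * g⁻¹) = z i * y := by
      rw [← e]
      calc g * z i * g⁻¹ * (g * y * g⁻¹) = g * (z i * y) * g⁻¹ := by group
        _ = z₀ := by rw [← e, hz]
    rw [eq_mul_inv_iff_mul_eq, mul_assoc, h3]
    group
  have h5 : (z i)⁻¹ * (g * z i * g⁻¹) ∈ W i :=
    mul_mem (inv_mem (h.zW i)) ((mem_normalizer_iff.1 (hg.1 i) _).1 (h.zW i))
  have h6 : (z i)⁻¹ * (g * z i * g⁻¹) ∈ (⨆ j, ⨆ (_ : j ≠ i), W j) := by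
    rw [h2]
    exact mul_mem hy (inv_mem hgy)
  have h4 : (z i)⁻¹ * (g * z i * g⁻¹) ∈ W i ⊓ (⨆ j, ⨆ (_ : j ≠ i), W j) := ⟨h5, h6⟩
  rw [h.ind i, mem_bot] at h4
  exact (inv_mul_eq_one.1 h4).symm

/-- an odd element of `NN` which fixes `z₀` is trivial on all `W i` -/
theorem cent (h : Tor S L K W z z₀ i₀) {g : G} (hg : g ∈ NN S K W i₀) (hz : g * z₀ * g⁻¹ = z₀)
    (ho : Odd (orderOf g)) (i : ι) : g ∈ centralizer (W i : Set G) := by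
  obtain ⟨s, hs, hsi⟩ := h.tr i
  obtain ⟨κ, hκ, -, h1⟩ := hg.2 s hs i hsi
  have h2 : κ * z i₀ * κ⁻¹ = z i₀ := by
    rw [← h1 _ (h.zW i₀)]
    have h3 := h.zs s hs i hsi
    calc s⁻¹ * g * s * z i₀ * (s⁻¹ * g * s)⁻¹ = s⁻¹ * (g * (s * z i₀ * s⁻¹) * g⁻¹) * s := by group
      _ = s⁻¹ * (s * z i₀ * s⁻¹) * s := by rw [h3, h.fix hg hz i]
      _ = z i₀ := by group
  have h3 := h.K2 κ hκ h2
  have h4 : g ^ 2 ∈ centralizer (W i : Set G) := by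
    rw [mem_centralizer_iff]
    intro w hw
    have hw' : s⁻¹ * w * s ∈ W i₀ := by
      have : w ∈ cj s (W i₀) := by rw [hsi]; exact hw
      exact mem_cj.1 this
    have h5 : (s⁻¹ * g * s) * ((s⁻¹ * g * s) * (s⁻¹ * w * s) * (s⁻¹ * g * s)⁻¹) * (s⁻¹ * g * s)⁻¹ = s⁻¹ * w * s := by
      have h6 : (s⁻¹ * g * s) * (s⁻¹ * w * s) * (s⁻¹ * g * s)⁻¹ ∈ W i₀ := by
        have h7 : g * w * g⁻¹ ∈ W i := (mem_normalizer_iff.1 (hg.1 i) w).1 hw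
        rw [← hsi, mem_cj] at h7
        have e : (s⁻¹ * g * s) * (s⁻¹ * w * s) * (s⁻¹ * g * s)⁻¹ = s⁻¹ * (g * w * g⁻¹) * s := by group
        rwa [e]
      rw [h1 _ h6, h1 _ hw']
      have := h3 _ hw'
      calc κ * (κ * (s⁻¹ * w * s) * κ⁻¹) * κ⁻¹ = κ ^ 2 * (s⁻¹ * w * s) * (κ ^ 2)⁻¹ := by
            rw [pow_two]; group
        _ = s⁻¹ * w * s := this
    have h8 : g ^ 2 * w * (g ^ 2)⁻¹ = w := by
      have e : (s⁻¹ * g * s) * ((s⁻¹ * g * s) * (s⁻¹ * w * s) * (s⁻¹ * g * s)⁻¹) * (s⁻¹ * g * s)⁻¹ =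
          s⁻¹ * (g ^ 2 * w * (g ^ 2)⁻¹) * s := by rw [pow_two]; group
      rw [e] at h5
      calc g ^ 2 * w * (g ^ 2)⁻¹ = s * (s⁻¹ * (g ^ 2 * w * (g ^ 2)⁻¹) * s) * s⁻¹ := by group
        _ = w := by rw [h5]; group
    calc w * g ^ 2 = g ^ 2 * w * (g ^ 2)⁻¹ * g ^ 2 := by rw [h8]
      _ = g ^ 2 * w := by group
  obtain ⟨m, hm⟩ := ho
  have h9 : g = (g ^ 2) ^ (m + 1) := by
    rw [← pow_mul, show 2 * (m + 1) = orderOf g + 1 by rw [hm]; ring, pow_add, pow_orderOf_eq_one, one_mul, pow_one]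
  rw [h9]
  exact pow_mem h4 _

/-- **(T5)** -/
theorem le_norm [Finite G] (h : Tor S L K W z z₀ i₀) : K ≤ normalizer (L : Set G) := by
  refine le_sup_left.trans (le_of_forall (S := S) (le_sup_right : S ≤ K ⊔ S) (inf_le_right.trans h.nS) ?_)
  intro R hR hRK
  rcases h.par R hR hRK with h1 | h1
  · exact h1
  have hSR : oddGen R ⊔ S = R := Omega.TTn.DiCoreAbs.oddGen_sup hR.le fun h2 =>
    h.syl (h2.trans (relIndex_dvd_index_of_le hR.le))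
  rw [← hSR]
  refine sup_le ?_ (le_normalizer.trans h.nS)
  conv_lhs => rw [oddGen_def]
  rw [closure_le]
  rintro x ⟨hx, ho⟩
  have hxN : x ∈ NN S K W i₀ := h.odd_le (mem_oddGen (hRK hx) ho)
  have h2 : x ∈ centralizer ((⨆ i, W i : Subgroup G) : Set G) := by
    have h3 : (⨆ i, W i) ≤ centralizer ({x} : Set G) := iSup_le fun i w hw => by
      rw [mem_centralizer_iff]
      intro y hy
      rw [Set.mem_singleton_iff.1 hy]
      exact (mem_centralizer_iff.1 (h.cent hxN (h1 x hx) ho i) w hw).symm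
    rw [mem_centralizer_iff]
    intro w hw
    exact (mem_centralizer_iff.1 (h3 hw) x rfl).symm
  exact centralizer_le_normalizer _ (centralizer_le h.LW h2)

/-- **(T5)**: contradiction if `K` is transitive on `W₁#`, `W₁` meets `L` and is not contained in `L` -/
theorem false_of [Finite G] (h : Tor S L K W z z₀ i₀) {v : G} (hvL : v ∈ L)
    (htr : ∀ w ∈ W i₀, w ≠ 1 → ∃ κ ∈ K, κ * v * κ⁻¹ = w) (hn : ¬ W i₀ ≤ L) : False := by
  apply hn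
  intro w hw
  by_cases hw1 : w = 1
  · rw [hw1]; exact one_mem _
  obtain ⟨κ, hκ, rfl⟩ := htr w hw hw1
  exact (mem_normalizer_iff.1 (h.le_norm hκ) v).1 hvL

end Tor

end Cfsg.Agent.Omega.NO3S.WY.TorEnd
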