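import Cfsg.Agent.Omega.NO3S.WY.InfOf
import Cfsg.Agent.Omega.NO3S.WY.Tor.EndOf
import Cfsg.Agent.Omega.NO3S.WY.Tor.Main

/-!
# THEOREM TOR over `TorP`

* **`torEnd : InfOf.TorEnd K`**.
-/

set_option autoImplicit false
set_option linter.dupNamespace false

namespace Cfsg.Agent.Omega.NO3S.WY.InfOf

open Cfsg.Agent.Omega.Frame (Cls)

universe u

/-- **`TorP` is impossible.** -/
theorem torEnd (K : Cls.{u}) : TorEnd K := by
  intro G _ _ _ S P B ZJ k L W Z C A hk j Y t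
  have : Nontrivial (Fin k) := Fin.nontrivial_iff_two_le.2 hk
  obtain ⟨V, z, 𝓦, W', F', z₀, c, o, h, p⟩ := Tor.exists_frame t
  exact h.false c o p (exists_ne j)

end Cfsg.Agent.Omega.NO3S.WY.InfOf
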